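import Groth.Agent.CIProjLib.Coh
import Groth.Agent.HypSurfLib.Coh
import Groth.Agent.EtAlgEasy.PrinPartO
import Groth.Agent.GeomIrred.Scheme

/-!
# Constants are the only functions on a complete intersection of positive dimension
-/

set_option autoImplicit false
set_option backward.isDefEq.respectTransparency false
set_option linter.style.haveILetI false

universe u

open CategoryTheory CategoryTheory.Limits AlgebraicGeometry TopologicalSpace

noncomputable section

namespace Groth.Agent.CIProjLib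

variable {n : ℕ} {k : Type u} [Field k]

theorem finrank_H0_of_bijective {X : Scheme.{u}} [X.Over (Spec (CommRingCat.of k))]
    (hb : Function.Bijective (Coh.toGlobal (X ↘ Spec (CommRingCat.of k)))) :
    Module.finrank k (Coh.HH X (Coh.structureModule X) 0) = 1 := by
  letI : Algebra k Γ(X, ⊤) := (Coh.toGlobal (X ↘ Spec (CommRingCat.of k))).toAlgebra
  let e : Coh.HH X (Coh.structureModule X) 0 ≃ₗ[k] Γ(X, ⊤) :=
    { (CurveLib.secOf (Coh.structureModule X)) with map_smul' := fun r c => CurveLib.secOf_smul (k := k) _ r c }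
  rw [e.finrank_eq, ← (AlgEquiv.ofBijective (Algebra.ofId k Γ(X, ⊤)) hb).toLinearEquiv.finrank_eq,
    Module.finrank_self]

theorem bijective_toGlobal_of_twistCI {X : Scheme.{u}} (f : X ⟶ CohB1.ProjSpace n k) {d : ℕ} (hd : 1 ≤ d)
    (hne : Nonempty X) (h : TwistCI f d) :
    Function.Bijective (Coh.toGlobal (f ≫ CohB1.ProjSpace.toSpec n k)) := by
  let eO : Twist.twistProjSpace n k 0 ≅ Coh.structureModule (CohB1.ProjSpace n k) :=
    (@asIso _ _ _ _ (ProjCoh.unitToTwist (CohB1.polyGrading n k)) ProjCoh.isIso_unitToTwist).symm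
  have hO := surjective_pullSect_congr_mod f eO (h.2 hd 0)
  have hP : Function.Bijective (Coh.toGlobal (CohB1.ProjSpace.toSpec n k)) :=
    CurveP1Lib.bijective_toGlobal_of_h0 (X := CohB1.ProjSpace n k) HypSurfLib.finrank_H0_projSpace
  have hf : Function.Surjective (f.app ⊤) := fun b => by
    obtain ⟨ν, hν⟩ := (ConcreteCategory.bijective_of_isIso ((AmpleLib.pullO f).hom.app (f ⁻¹ᵁ ⊤))).2
      (OmegaSh.strSect X (f ⁻¹ᵁ ⊤) b)
    obtain ⟨m, rfl⟩ := hO ν
    refine ⟨m, ?_⟩
    exact (EtAlgEasy.PrinPartO.pullO_pullSect f ⊤ m).symm.trans hν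
  have hcomp : (Coh.toGlobal (f ≫ CohB1.ProjSpace.toSpec n k) : k → Γ(X, ⊤)) =
      f.app ⊤ ∘ Coh.toGlobal (CohB1.ProjSpace.toSpec n k) := by
    funext a; rfl
  haveI : Nontrivial Γ(X, ⊤) := by
    obtain ⟨x⟩ := hne
    exact RingHom.domain_nontrivial (X.presheaf.germ ⊤ x trivial).hom
  haveI : Nontrivial (Coh.Γtop X) := ‹Nontrivial Γ(X, ⊤)›
  refine ⟨RingHom.injective _, ?_⟩
  rw [hcomp]
  exact hf.comp hP.2

theorem geometricallyConnected_of_twistCI {X : Scheme.{u}} (f : X ⟶ CohB1.ProjSpace n k) [IsClosedImmersion f]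
    {d : ℕ} (hd : 1 ≤ d) (hne : Nonempty X) (h : TwistCI f d) :
    GeometricallyConnected (f ≫ CohB1.ProjSpace.toSpec n k) := by
  letI : X.Over (Spec (CommRingCat.of k)) := ⟨f ≫ CohB1.ProjSpace.toSpec n k⟩
  haveI : IsProper (X ↘ Spec (CommRingCat.of k)) :=
    inferInstanceAs (IsProper (f ≫ CohB1.ProjSpace.toSpec n k))
  let K := AlgebraicClosure k
  haveI : ConnectedSpace ↥(pullback (f ≫ CohB1.ProjSpace.toSpec n k)
      (Spec.map (CommRingCat.ofHom (algebraMap k K)))) :=
    CurveP1Lib.connectedSpace_of_bijective _ (CurveP1Lib.bijective_toGlobal_bc k K (X := X)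
      (finrank_H0_of_bijective (bijective_toGlobal_of_twistCI f hd hne h)))
  exact GeomIrred.geometricallyConnected_of_connected_pullback _ K

theorem nonempty_subscheme {r : ℕ} {a : Fin r → ℕ} (G : ∀ j : Fin r, LefPen.Form n k (a j)) {d : ℕ}
    (hdim : topologicalKrullDim ↥(LefPen.ciIdeal G).subscheme = (d : WithBot ℕ∞)) :
    Nonempty ↥(LefPen.ciIdeal G).subscheme := by
  by_contra h
  haveI := not_nonempty_iff.1 h
  haveI : IsEmpty (IrreducibleCloseds ↥(LefPen.ciIdeal G).subscheme) :=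
    ⟨fun S => IsEmpty.false (α := (LefPen.ciIdeal G).subscheme) (S.isIrreducible.nonempty).some⟩
  rw [topologicalKrullDim, Order.krullDim_eq_bot] at hdim
  exact WithBot.bot_ne_natCast _ hdim

end Groth.Agent.CIProjLib
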