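import Groth.Agent.HypSurfLib.Ideal
import Groth.Agent.CIEquidimLib.Main
import Groth.Agent.IdealStalkLib.Comap
import Groth.Agent.IdealStalkLib.Cartier
import Groth.Agent.PicProjLib.Chart
import Groth.Agent.RegLocLib.AffineDim
import Groth.Agent.CMInterLib.Ring
import Groth.Agent.GorLib.CM
import Groth.Agent.ASp.GeomRedEt
import Groth.Agent.ProjSmoothLib.Basic
import Groth.Agent.S10829

/-!
# Local equations of complete intersections in projective space
-/

set_option autoImplicit false
set_option backward.isDefEq.respectTransparency false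
set_option backward.isDefEq.respectTransparency.types false
set_option linter.style.haveILetI false

universe u

open CategoryTheory CategoryTheory.Limits AlgebraicGeometry TopologicalSpace Opposite IsLocalRing
open Groth.Agent.InterDimLib

noncomputable section

namespace Groth.Agent.CIProjLib

variable {n : ℕ} {k : Type u} [Field k]

local notation "P" => CohB1.ProjSpace n k

/-- The chart as an affine open. -/
def chartAff (n : ℕ) (k : Type u) [Field k] (i : Fin (n + 1)) : (CohB1.ProjSpace n k).affineOpens :=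
  ⟨LefPen.chart n k i, Proj.isAffineOpen_basicOpen _ _ (LefPen.X_mem n k i) one_pos⟩

theorem exists_chart (x : P) : ∃ i, x ∈ LefPen.chart n k i :=
  Opens.mem_iSup.1 ((AmpleEmb.iSup_stdOpen n k).ge (Opens.mem_top x))

/-- The germ of the local equation of a form. -/
def germF {d : ℕ} (G : LefPen.Form n k d) (i : Fin (n + 1)) (x : P) (hx : x ∈ LefPen.chart n k i) :
    (CohB1.ProjSpace n k).presheaf.stalk x :=
  (CohB1.ProjSpace n k).presheaf.germ (LefPen.chart n k i) x hx (LefPen.dehom G i)

theorem hypIdeal_le_chart {d : ℕ} (G : LefPen.Form n k d) (i : Fin (n + 1)) :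
    (LefPen.hypIdeal G).ideal (chartAff n k i) ≤ Ideal.span {LefPen.dehom G i} := by
  intro c hc
  have h1 : c ∈ LefPen.hypFamily G (chartAff n k i) := Scheme.IdealSheafData.ideal_ofIdeals_le _ _ hc
  obtain ⟨a, ha⟩ := Ideal.mem_span_singleton'.1 (Ideal.mem_comap.1 ((Submodule.mem_iInf _).1 h1 i))
  let ρ := (CohB1.ProjSpace n k).presheaf.map
    (homOfLE (le_inf le_rfl le_rfl : LefPen.chart n k i ≤ LefPen.chart n k i ⊓ LefPen.chart n k i)).op
  have hρ : ∀ (h : LefPen.chart n k i ⊓ LefPen.chart n k i ≤ LefPen.chart n k i) (b : Γ(P, LefPen.chart n k i)),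
      ρ ((CohB1.ProjSpace n k).presheaf.map (homOfLE h).op b) = b := fun h b => by
    refine (ConcreteCategory.congr_hom ((CohB1.ProjSpace n k).presheaf.map_comp (homOfLE h).op _) b).symm.trans ?_
    exact ConcreteCategory.congr_hom ((CohB1.ProjSpace n k).presheaf.map_id _) b
  have h2 := congrArg ρ ha
  rw [map_mul] at h2
  erw [hρ _ (LefPen.dehom G i), hρ _ c] at h2
  exact Ideal.mem_span_singleton'.2 ⟨_, h2⟩

theorem dehom_mem_hypIdeal {d : ℕ} (G : LefPen.Form n k d) (i : Fin (n + 1)) :
    LefPen.dehom G i ∈ (LefPen.hypIdeal G).ideal (chartAff n k i) := by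
  by_cases hG : G = 0
  · have h : LefPen.dehom G i = 0 := by
      subst hG
      unfold LefPen.dehom
      rw [show HomogeneousLocalization.Away.mk (CohB1.polyGrading n k) (LefPen.X_mem n k i) d
        (0 : LefPen.Form n k d).1 (by rw [smul_eq_mul, mul_one]; exact zero_mem _) = 0 from
          HomogeneousLocalization.val_injective _ (by simp [Localization.mk_zero]), map_zero]
    rw [h]; exact zero_mem _
  · rw [HypSurfLib.hypIdeal_ideal G hG]
    exact ⟨_, HypSurfLib.mulG_chartGen G i⟩

theorem stalkIdeal_hypIdeal {d : ℕ} (G : LefPen.Form n k d) (i : Fin (n + 1)) (x : P)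
    (hx : x ∈ LefPen.chart n k i) :
    IntMult.stalkIdeal (LefPen.hypIdeal G) x = Ideal.span {germF G i x hx} := by
  have h : (LefPen.hypIdeal G).ideal (chartAff n k i) = Ideal.span {LefPen.dehom G i} :=
    le_antisymm (hypIdeal_le_chart G i) ((Ideal.span_singleton_le_iff_mem _).2 (dehom_mem_hypIdeal G i))
  rw [IdealStalkLib.stalkIdeal_eq _ (chartAff n k i) x hx, h, Ideal.map_span, Set.image_singleton]
  rfl

theorem stalkIdeal_ciIdeal {r : ℕ} {a : Fin r → ℕ} (G : ∀ j : Fin r, LefPen.Form n k (a j)) (i : Fin (n + 1))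
    (x : P) (hx : x ∈ LefPen.chart n k i) :
    IntMult.stalkIdeal (LefPen.ciIdeal G) x = Ideal.ofList (List.ofFn fun j => germF (G j) i x hx) := by
  have hJ : ∀ J : (CohB1.ProjSpace n k).IdealSheafData,
      IntMult.stalkIdeal J x = (J.ideal (chartAff n k i)).map
        ((CohB1.ProjSpace n k).presheaf.germ (LefPen.chart n k i) x hx).hom :=
    fun J => IdealStalkLib.stalkIdeal_eq J (chartAff n k i) x hx
  rw [LefPen.ciIdeal, hJ, Scheme.IdealSheafData.ideal_iSup, iSup_apply, Ideal.map_iSup]
  simp only [← hJ, stalkIdeal_hypIdeal (i := i) (hx := hx)]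
  refine le_antisymm (iSup_le fun j => (Ideal.span_singleton_le_iff_mem _).2 ?_) (Ideal.span_le.2 fun z hz => ?_)
  · exact Ideal.subset_span (List.mem_ofFn.2 ⟨j, rfl⟩)
  · obtain ⟨j, rfl⟩ := List.mem_ofFn.1 hz
    exact le_iSup (fun j => Ideal.span {germF (G j) i x hx}) j (Ideal.mem_span_singleton_self _)

theorem exists_nat_of_le {d : WithBot ℕ∞} {m : ℕ} (h : d ≤ (m : WithBot ℕ∞)) (h' : d ≠ ⊥) :
    ∃ e : ℕ, d = (e : WithBot ℕ∞) := by
  obtain ⟨e, rfl⟩ := WithBot.ne_bot_iff_exists.1 h'
  have h2 : e ≤ (m : ℕ∞) := WithBot.coe_le_coe.1 h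
  exact ⟨e.toNat, (congrArg WithBot.some (ENat.natCast_toNat (ne_top_of_le_ne_top (ENat.natCast_ne_top m) h2))).symm⟩

theorem isLocallyNoetherian_projSpace : IsLocallyNoetherian P := by
  haveI : IsProper (CohB1.ProjSpace.toSpec n k) := inferInstance
  exact LocallyOfFiniteType.isLocallyNoetherian (CohB1.ProjSpace.toSpec n k)

theorem isRegularLocalRing_stalk (x : P) : IsRegularLocalRing ((CohB1.ProjSpace n k).presheaf.stalk x) := by
  haveI := ProjSmoothLib.smooth_toSpec n k
  exact ASp.isRegularLocalRing_stalk_of_smooth_field (k := k) (CohB1.ProjSpace.toSpec n k) x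

/-- Local rings of closed points of projective space. -/
theorem dim_stalk_closed {x : P} (hx : IsClosed ({x} : Set P)) :
    ringKrullDim ((CohB1.ProjSpace n k).presheaf.stalk x) = (n : WithBot ℕ∞) := by
  obtain ⟨i, hi⟩ := exists_chart x
  have hU : IsAffineOpen (AmpleEmb.stdOpen n k i) := (chartAff n k i).2
  have hi' : x ∈ AmpleEmb.stdOpen n k i := hi
  let p := hU.primeIdealOf ⟨x, hi'⟩
  have hfp : hU.fromSpec p = x := hU.fromSpec_primeIdealOf ⟨x, hi'⟩
  haveI : p.asIdeal.IsMaximal := by
    refine (PrimeSpectrum.isClosed_singleton_iff_isMaximal p).1 ?_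
    have h := hx.preimage hU.fromSpec.continuous
    rwa [← hfp, ← Set.image_singleton, Set.preimage_image_eq _ hU.fromSpec.isOpenEmbedding.injective] at h
  letI := TopCat.Presheaf.algebra_section_stalk (CohB1.ProjSpace n k).presheaf (⟨x, hi'⟩ : AmpleEmb.stdOpen n k i)
  haveI : IsLocalization.AtPrime ((CohB1.ProjSpace n k).presheaf.stalk x) p.asIdeal :=
    hU.isLocalization_stalk ⟨x, hi'⟩
  rw [IsLocalization.AtPrime.ringKrullDim_eq_height p.asIdeal ((CohB1.ProjSpace n k).presheaf.stalk x)]
  let e := PicProjLib.chartEquiv n k i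
  haveI : (p.asIdeal.comap e).IsMaximal := Ideal.comap_isMaximal_of_equiv e
  rw [← RingEquiv.height_comap e p.asIdeal,
    RegLocLib.height_eq_of_isMaximal_mvPolynomial k n (p.asIdeal.comap e) inferInstance]
  rfl

theorem germ_mem_maximal {r : ℕ} {a : Fin r → ℕ} (G : ∀ j : Fin r, LefPen.Form n k (a j)) {x : P}
    (hx : x ∈ (LefPen.ciIdeal G).support) {i : Fin (n + 1)} (hi : x ∈ LefPen.chart n k i) :
    ∀ g ∈ List.ofFn (fun j => germF (G j) i x hi), g ∈ maximalIdeal ((CohB1.ProjSpace n k).presheaf.stalk x) := by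
  intro g hg
  refine IdealStalkLib.stalkIdeal_le_maximal _ hx ?_
  rw [stalkIdeal_ciIdeal G i x hi]
  exact Ideal.subset_span hg

/-- The local equations form a regular sequence at the closed points of a complete intersection. -/
theorem isWeaklyRegular_germs {r : ℕ} {a : Fin r → ℕ} (G : ∀ j : Fin r, LefPen.Form n k (a j)) (hr : r ≤ n)
    (hdim : topologicalKrullDim ↥(LefPen.ciIdeal G).subscheme = ((n - r : ℕ) : WithBot ℕ∞))
    {y : (LefPen.ciIdeal G).subscheme} (hy : IsClosed ({(LefPen.ciIdeal G).subschemeι y} : Set P))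
    {i : Fin (n + 1)} (hi : (LefPen.ciIdeal G).subschemeι y ∈ LefPen.chart n k i) :
    RingTheory.Sequence.IsWeaklyRegular ((CohB1.ProjSpace n k).presheaf.stalk ((LefPen.ciIdeal G).subschemeι y))
      (List.ofFn fun j => germF (G j) i _ hi) := by
  let j₀ := (LefPen.ciIdeal G).subschemeι
  let R := (CohB1.ProjSpace n k).presheaf.stalk (j₀ y)
  let rs := List.ofFn fun j => germF (G j) i (j₀ y) hi
  haveI := isLocallyNoetherian_projSpace (n := n) (k := k)
  haveI := isRegularLocalRing_stalk (j₀ y)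
  have hmem : j₀ y ∈ (LefPen.ciIdeal G).support := by
    rw [← SetLike.mem_coe, ← Scheme.IdealSheafData.range_subschemeι]; exact ⟨y, rfl⟩
  have hker : RingHom.ker (j₀.stalkMap y).hom = Ideal.ofList rs :=
    (IdealStalkLib.ker_stalkMap_subschemeι _ y).trans (stalkIdeal_ciIdeal G i _ hi)
  refine CMInterLib.isWeaklyRegular_of_supportDim_le rs R
    ((GorLib.isCohenMacaulay R (GorLib.gorensteinLocal_of_regular R)).supportDim_eq_depth) (germ_mem_maximal G hmem hi) ?_
  have e : (R ⧸ (Ideal.ofList rs • ⊤ : Submodule R R)) ≃ₗ[R] R ⧸ Ideal.ofList rs :=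
    Submodule.quotEquivOfEq _ _ (by simp)
  rw [Module.supportDim_eq_of_equiv e, Module.supportDim_quotient_eq_ringKrullDim,
    Module.supportDim_self_eq_ringKrullDim, List.length_ofFn, dim_stalk_closed hy,
    ringKrullDim_eq_of_ringEquiv ((Ideal.quotEquivOfEq hker.symm).trans
      (RingHom.quotientKerEquivOfSurjective (f := (j₀.stalkMap y).hom) (j₀.stalkMap_surjective y)))]
  haveI : IsLocallyNoetherian (LefPen.ciIdeal G).subscheme := LocallyOfFiniteType.isLocallyNoetherian j₀
  have h : ringKrullDim ((LefPen.ciIdeal G).subscheme.presheaf.stalk y) ≤ ((n - r : ℕ) : WithBot ℕ∞) := by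
    rw [← hdim, DimFormulaLib.topologicalKrullDim_eq_iSup_stalk]
    exact le_iSup (fun z => ringKrullDim ((LefPen.ciIdeal G).subscheme.presheaf.stalk z)) y
  refine (add_le_add_left h _).trans ?_
  exact_mod_cast (show n - r + r ≤ n by omega)

/-- Dropping the last form of a complete intersection leaves a complete intersection. -/
theorem dim_prefix {r : ℕ} {a : Fin (r + 1) → ℕ} (ha : ∀ j, 1 ≤ a j) (G : ∀ j : Fin (r + 1), LefPen.Form n k (a j))
    (hr : r + 1 ≤ n)
    (hdim : topologicalKrullDim ↥(LefPen.ciIdeal G).subscheme = ((n - (r + 1) : ℕ) : WithBot ℕ∞)) :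
    topologicalKrullDim ↥(LefPen.ciIdeal (fun j : Fin r => G j.castSucc)).subscheme = ((n - r : ℕ) : WithBot ℕ∞) := by
  let I' := LefPen.ciIdeal (fun j : Fin r => G j.castSucc)
  let I := LefPen.ciIdeal G
  have hI : topologicalKrullDim ↥(I.support : Set P) = ((n - (r + 1) : ℕ) : WithBot ℕ∞) := by
    rw [← hdim, ← Scheme.IdealSheafData.range_subschemeι]
    exact (IsHomeomorph.topologicalKrullDim_eq _ I.subschemeι.isEmbedding.toHomeomorph.isHomeomorph).symm
  have hI' : topologicalKrullDim ↥I'.subscheme = topologicalKrullDim ↥(I'.support : Set P) := by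
    rw [← Scheme.IdealSheafData.range_subschemeι]
    exact IsHomeomorph.topologicalKrullDim_eq _ I'.subschemeι.isEmbedding.toHomeomorph.isHomeomorph
  have hsub : ∀ z : P, z ∈ I.support ↔ z ∈ I'.support ∧ (G (Fin.last r)).1 ∈ idl (z : Pts n k) := fun z => by
    rw [CIEquidimLib.mem_support_ciIdeal, CIEquidimLib.mem_support_ciIdeal, Set.range_subset_iff, Set.range_subset_iff,
      Fin.forall_fin_succ']
    exact Iff.rfl
  refine le_antisymm ?_ ?_
  · rw [hI']
    have hn : topologicalKrullDim ↥(I'.support : Set P) ≤ ((n : ℕ) : WithBot ℕ∞) :=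
      (topologicalKrullDim_subspace_le _ _).trans (Groth.Agent.S10829.result k n).le
    obtain ⟨z₀, hz₀⟩ : (I.support : Set P).Nonempty := by
      by_contra h
      haveI : IsEmpty ↥(I.support : Set P) := Set.isEmpty_coe_sort.2 (Set.not_nonempty_iff_eq_empty.1 h)
      haveI : IsEmpty (IrreducibleCloseds ↥(I.support : Set P)) :=
        ⟨fun S => IsEmpty.false (S.isIrreducible.nonempty).some⟩
      rw [topologicalKrullDim, Order.krullDim_eq_bot] at hI
      exact WithBot.bot_ne_natCast _ hI
    obtain ⟨e, he⟩ : ∃ e : ℕ, topologicalKrullDim ↥(I'.support : Set P) = (e : WithBot ℕ∞) :=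
      exists_nat_of_le hn (by
        haveI : Nonempty (IrreducibleCloseds ↥(I'.support : Set P)) :=
          ⟨⟨_, isIrreducible_singleton.closure, isClosed_closure (s := {⟨z₀, ((hsub z₀).1 hz₀).1⟩})⟩⟩
        rw [topologicalKrullDim]; exact Order.krullDim_ne_bot_iff.2 inferInstance)
    rw [he]
    by_contra hlt
    have hlt' : n - r < e := by
      by_contra hh
      exact hlt (by exact_mod_cast (show e ≤ n - r by omega))
    obtain ⟨x, hx, hdx⟩ := exists_pt_of_dim (X := (I'.support : Set P)) I'.support.isClosed he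
    let f : Fin 1 → MvPolynomial (Fin (n + 1)) k := fun _ => (G (Fin.last r)).1
    have hf : ∀ i, ∃ j, f i ∈ CohB1.polyGrading n k j := fun _ => ⟨_, (G (Fin.last r)).2⟩
    have hfm : Set.range f ⊆ MvPolynomial.idealOfVars (Fin (n + 1)) k := by
      rintro _ ⟨_, rfl⟩
      exact mem_vars_of_isHomogeneous (G (Fin.last r)).2 (ha _)
    obtain ⟨z, hxz, hfz⟩ := exists_zero f hf hfm hdx (by rw [Nat.card_fin]; omega)
    let C : Set (Pts n k) := closure {x} ∩ ProjectiveSpectrum.zeroLocus (CohB1.polyGrading n k) (Set.range f)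
    have hC : IsClosed C := isClosed_closure.inter (isClosed_zeros f)
    have hzC : z ∈ C := ⟨specializes_iff_mem_closure.1 hxz, hfz⟩
    obtain ⟨η, hη, hmin, -, -⟩ := exists_generic hC (irreducibleComponent_mem_irreducibleComponents (⟨z, hzC⟩ : C))
    obtain ⟨d', hd'⟩ := exists_dim_idl η
    have h1 := dim_le_of_minimal f hf (specializes_iff_mem_closure.2 hη.1) hη.2
      (fun w hxw hwη hfw => hmin w ⟨specializes_iff_mem_closure.1 hxw, hfw⟩ hwη) hdx hd'
    rw [Nat.card_fin] at h1
    have hηI : (η : P) ∈ I.support := (hsub η).2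
      ⟨(specializes_iff_mem_closure.2 hη.1).mem_closed I'.support.isClosed hx, hη.2 ⟨0, rfl⟩⟩
    have h2 : (d' : WithBot ℕ∞) ≤ ((n - (r + 1) : ℕ) : WithBot ℕ∞) := by
      rw [← dim_closure η hd', ← hI]
      exact (Topology.IsEmbedding.inclusion (closure_minimal (Set.singleton_subset_iff.2 hηI)
        I.support.isClosed)).isInducing.topologicalKrullDim_le
    have h3 : d' ≤ n - (r + 1) := by exact_mod_cast h2
    omega
  · obtain ⟨w⟩ : Nonempty ↥I.subscheme := by
      by_contra h
      haveI := not_nonempty_iff.1 h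
      haveI : IsEmpty (IrreducibleCloseds ↥(LefPen.ciIdeal G).subscheme) :=
        ⟨fun S => IsEmpty.false (α := I.subscheme) (S.isIrreducible.nonempty).some⟩
      rw [topologicalKrullDim, Order.krullDim_eq_bot] at hdim
      exact WithBot.bot_ne_natCast _ hdim
    have hw : I.subschemeι w ∈ (I'.support : Set P) := ((hsub _).1 (by
      rw [← SetLike.mem_coe, ← Scheme.IdealSheafData.range_subschemeι]; exact ⟨w, rfl⟩)).1
    rw [← Scheme.IdealSheafData.range_subschemeι] at hw
    obtain ⟨z, -⟩ := hw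
    exact (CIEquidimLib.le_dim_component _ _ (irreducibleComponent_mem_irreducibleComponents z)).trans
      (topologicalKrullDim_subspace_le _ _)

end Groth.Agent.CIProjLib
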