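import Groth.Agent.CIProjLib.Step
import Groth.Agent.LeffCoreLib.Stalk
import Groth.Agent.ProjTwist.Vanish
import Groth.Agent.SerreAff.Basic
import Groth.Agent.ProperFin.PushHH
import Groth.Agent.FactorSeqLib.Basic
import Groth.Agent.FinSurjLib.Vanish
import Groth.Agent.S7631
import Groth.Agent.K0PnLib.Euler

/-!
# Cohomology of twists on complete intersections
-/

set_option autoImplicit false
set_option backward.isDefEq.respectTransparency false
set_option linter.style.haveILetI false

universe u

open CategoryTheory CategoryTheory.Limits AlgebraicGeometry TopologicalSpace Opposite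
open Groth.Agent.PullbackMod

noncomputable section

namespace Groth.Agent.CIProjLib

/-- Cohomology of a pullback is that of its direct image. -/
theorem subsingleton_push_iff {X Y : Scheme.{u}} (f : X ⟶ Y) [IsAffineHom f] (M : X.Modules) [Coh.IsQCoh M] (p : ℕ) :
    Subsingleton (Coh.HH Y ((Scheme.Modules.pushforward f).obj M) p) ↔ Subsingleton (Coh.HH X M p) := by
  obtain ⟨e, -⟩ := ProperFin.exists_pushEquiv f (M := M)
    (fun _ hV m => CohBase.affine_vanishing _ (hV.preimage f) m) p
  exact ⟨fun h => e.toEquiv.subsingleton, fun h => e.symm.toEquiv.subsingleton⟩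

theorem subsingleton_HH_of_iso {X : Scheme.{u}} {M N : X.Modules} (e : M ≅ N) (p : ℕ)
    (h : Subsingleton (Coh.HH X M p)) : Subsingleton (Coh.HH X N p) :=
  haveI := h; ProjCoh.subsingleton_of_iso e p

theorem surjective_pullSect_iso {X Y : Scheme.{u}} (f : X ⟶ Y) [IsIso f] (M : Y.Modules) :
    Function.Surjective (OmegaSh.pullSect f M ⊤) := by
  have hS : DCohLib.SuppOn f M :=
    { subsingleton := fun y hy => absurd (f.surjective y) hy
      smul_eq_zero := fun x a ha z => by
        have h : a = 0 := (ConcreteCategory.bijective_of_isIso (f.stalkMap x)).1 (ha.trans (map_zero _).symm)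
        rw [h, zero_smul] }
  haveI := DCohLib.isIso_unit_of_suppOn f hS
  exact (ConcreteCategory.bijective_of_isIso
    (((Scheme.Modules.pullbackPushforwardAdjunction f).unit.app M).app ⊤)).2

theorem surjective_pullSect_comp {A B C : Scheme.{u}} (f : A ⟶ B) (g : B ⟶ C) (M : C.Modules)
    (hg : Function.Surjective (OmegaSh.pullSect g M ⊤))
    (hf : Function.Surjective (OmegaSh.pullSect f ((Scheme.Modules.pullback g).obj M) ⊤)) :
    Function.Surjective (OmegaSh.pullSect (f ≫ g) M ⊤) := by
  intro σ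
  obtain ⟨ν, rfl⟩ := (ConcreteCategory.bijective_of_isIso
    (((Scheme.Modules.pullbackComp f g).hom.app M).app ⊤)).2 σ
  obtain ⟨μ, rfl⟩ := hf ν
  obtain ⟨m, rfl⟩ := hg μ
  exact ⟨m, (FactorSeqLib.pullSect_comp f g M ⊤ m).symm⟩

theorem surjective_pullSect_congr {A B : Scheme.{u}} {f g : A ⟶ B} (h : f = g) (M : B.Modules)
    (hf : Function.Surjective (OmegaSh.pullSect f M ⊤)) : Function.Surjective (OmegaSh.pullSect g M ⊤) := by
  subst h; exact hf

theorem surjective_pullSect_congr_mod {A B : Scheme.{u}} (f : A ⟶ B) {M N : B.Modules} (e : M ≅ N)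
    (hf : Function.Surjective (OmegaSh.pullSect f M ⊤)) : Function.Surjective (OmegaSh.pullSect f N ⊤) := by
  intro σ
  obtain ⟨ν, rfl⟩ := (ConcreteCategory.bijective_of_isIso (((Scheme.Modules.pullback f).map e.hom).app (f ⁻¹ᵁ ⊤))).2 σ
  obtain ⟨m, rfl⟩ := hf ν
  exact ⟨e.hom.app ⊤ m, (FactorSeqLib.pullSect_map f e.hom ⊤ m).symm⟩

theorem isRegular_of_gen {R M : Type u} [CommRing R] [AddCommGroup M] [Module R M] {v : M}
    (hv : Function.Bijective (LinearMap.toSpanSingleton R M v)) {u : R} (hu : ∀ c : R, c * u = 0 → c = 0) {z : M}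
    (hz : u • z = 0) : z = 0 := by
  obtain ⟨c, rfl⟩ := hv.2 z
  have h1 : u * c = 0 := hv.1 ((mul_smul u c v).trans (hz.trans (zero_smul R v).symm))
  show c • v = 0
  rw [hu c (by rw [mul_comm]; exact h1), zero_smul]

/-- The sequence of an invertible module along an effective divisor. -/
theorem exists_restriction_seq {X : Scheme.{u}} {J : X.IdealSheafData} (hJ : PicF.IsInvertible (ClSub.idealMod J))
    {N : X.Modules} (hN : PicF.IsInvertible N) :
    ∃ (i : CohB1.tensorMod (ClSub.idealMod J) N ⟶ N) (w : i ≫ FormalSys.iqπ J N = 0),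
      (ShortComplex.mk i (FormalSys.iqπ J N) w).ShortExact := by
  haveI := InvExt.isQCoh_of_isInvertible hN
  refine LeffCore.exists_shortExact_twist hJ (𝟙 N) (FormalSys.iqπ J N) (fun x => LeffCore.stalk_iqπ J N x)
    (fun x => ?_)
  obtain ⟨v, u, hu, hv, hvu⟩ := LeffCore.exists_gen hJ x
  have hid : ∀ m, stalkLin (𝟙 N) x m = m := fun m => by rw [stalkLin_id]; rfl
  refine ⟨fun m => ⟨m, hid m⟩, fun m => ?_⟩
  rw [hid]
  refine ⟨fun h c _ => by rw [h, smul_zero], fun h => ?_⟩
  obtain ⟨g, hg⟩ := ParaFLib.exists_stalk_gen hN x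
  refine isRegular_of_gen hg (fun c hc => ?_) (h u (hu ▸ Ideal.mem_span_singleton_self u))
  have hinj : Function.Injective (stalkLin (ClSub.idealModι J) x) :=
    (mono_iff_stalk (ClSub.idealModι J)).1 (by unfold ClSub.idealModι; infer_instance) x
  have h1 : c • v = 0 := hinj (by rw [map_smul, hvu, smul_smul, hc, zero_smul, map_zero])
  exact hv.1 (h1.trans (zero_smul _ v).symm)

variable {n : ℕ} {k : Type u} [Field k]

/-- Vanishing and surjectivity for the twists pulled back to a scheme over projective space. -/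
def TwistCI {X : Scheme.{u}} (f : X ⟶ CohB1.ProjSpace n k) (d : ℕ) : Prop :=
  (∀ (i : ℤ) (p : ℕ), 0 < p → p < d →
    Subsingleton (Coh.HH X ((Scheme.Modules.pullback f).obj (Twist.twistProjSpace n k i)) p)) ∧
  (1 ≤ d → ∀ i : ℤ, Function.Surjective (OmegaSh.pullSect f (Twist.twistProjSpace n k i) ⊤))

theorem isQCoh_pullTwist {X : Scheme.{u}} (f : X ⟶ CohB1.ProjSpace n k) (i : ℤ) :
    Coh.IsQCoh ((Scheme.Modules.pullback f).obj (Twist.twistProjSpace n k i)) :=
  InvExt.isQCoh_of_isInvertible (AmpleLib.isInvertible_pullback f (HypSurfLib.isInvertible_twist i))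

theorem twistCI_id : TwistCI (𝟙 (CohB1.ProjSpace n k)) n := by
  refine ⟨fun i p hp hpn => ?_, fun _ i => surjective_pullSect_iso _ _⟩
  exact subsingleton_HH_of_iso ((Scheme.Modules.pullbackId _).app _).symm p
    (ProjTwist.subsingleton_HH n k i p (by omega) (by omega))

theorem twistCI_iso_comp {X X' : Scheme.{u}} (φ : X ⟶ X') [IsIso φ] (g : X' ⟶ CohB1.ProjSpace n k)
    (f : X ⟶ CohB1.ProjSpace n k) (h : φ ≫ g = f) {d : ℕ} (hg : TwistCI g d) : TwistCI f d := by
  subst h
  refine ⟨fun i p hp hpd => ?_, fun hd i => surjective_pullSect_comp φ g _ (hg.2 hd i) (surjective_pullSect_iso φ _)⟩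
  haveI := isQCoh_pullTwist g i
  let M := (Scheme.Modules.pullback g).obj (Twist.twistProjSpace n k i)
  have hS : DCohLib.SuppOn φ M :=
    { subsingleton := fun y hy => absurd (φ.surjective y) hy
      smul_eq_zero := fun x a ha z => by
        have h : a = 0 := (ConcreteCategory.bijective_of_isIso (φ.stalkMap x)).1 (ha.trans (map_zero _).symm)
        rw [h, zero_smul] }
  haveI := DCohLib.isIso_unit_of_suppOn φ hS
  haveI : Subsingleton (Coh.HH X' ((Scheme.Modules.pushforward φ).obj ((Scheme.Modules.pullback φ).obj M)) p) :=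
    subsingleton_HH_of_iso (asIso ((Scheme.Modules.pullbackPushforwardAdjunction φ).unit.app M)) p (hg.1 i p hp hpd)
  haveI : Coh.IsQCoh ((Scheme.Modules.pullback φ).obj M) :=
    InvExt.isQCoh_of_isInvertible (AmpleLib.isInvertible_pullback φ
      (AmpleLib.isInvertible_pullback g (HypSurfLib.isInvertible_twist i)))
  haveI : Subsingleton (Coh.HH X ((Scheme.Modules.pullback φ).obj M) p) := (subsingleton_push_iff φ _ p).1 inferInstance
  exact subsingleton_HH_of_iso ((Scheme.Modules.pullbackComp φ g).app _) p ‹_›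

/-- One divisor step. -/
theorem twistCI_divisor {Y : Scheme.{u}} (ι : Y ⟶ CohB1.ProjSpace n k) {d : ℕ} (hY : TwistCI ι (d + 1))
    {J : Y.IdealSheafData} {a : ℤ}
    (hJ : Nonempty (ClSub.idealMod J ≅ (Scheme.Modules.pullback ι).obj (Twist.twistProjSpace n k a))) :
    TwistCI (J.subschemeι ≫ ι) d := by
  obtain ⟨e⟩ := hJ
  have hinv : PicF.IsInvertible (ClSub.idealMod J) :=
    ParaFLib.isInvertible_of_iso e.symm (AmpleLib.isInvertible_pullback ι (HypSurfLib.isInvertible_twist a))
  have hN : ∀ i, PicF.IsInvertible ((Scheme.Modules.pullback ι).obj (Twist.twistProjSpace n k i)) := fun i =>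
    AmpleLib.isInvertible_pullback ι (HypSurfLib.isInvertible_twist i)
  have hvan : ∀ (i : ℤ) (p : ℕ), 0 < p → p < d + 1 → Subsingleton (Coh.HH Y (CohB1.tensorMod (ClSub.idealMod J)
      ((Scheme.Modules.pullback ι).obj (Twist.twistProjSpace n k i))) p) := fun i p hp hpd => by
    haveI := hY.1 (a + i) p hp hpd
    exact ProjCoh.subsingleton_of_iso (AmpleLib.tIso e (Iso.refl _) ≪≫ (AmpleLib.pullTensor ι _ _).symm ≪≫
      (Scheme.Modules.pullback ι).mapIso (K0PnLib.twistAddIso k n rfl)).symm p
  refine ⟨fun i p hp hpd => ?_, fun hd i => ?_⟩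
  · obtain ⟨g, w, hS⟩ := exists_restriction_seq hinv (hN i)
    haveI := isQCoh_pullTwist ι i
    haveI := hY.1 i p hp (by omega)
    haveI := hvan i (p + 1) (Nat.succ_pos p) (by omega)
    haveI : Subsingleton (Coh.HH Y ((FormalSys.iqF J).obj
        ((Scheme.Modules.pullback ι).obj (Twist.twistProjSpace n k i))) p) :=
      FinSurjLib.subsingleton_right hS p inferInstance inferInstance
    haveI := InvExt.isQCoh_of_isInvertible (AmpleLib.isInvertible_pullback J.subschemeι (hN i))
    exact subsingleton_HH_of_iso ((Scheme.Modules.pullbackComp J.subschemeι ι).app _) p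
      ((subsingleton_push_iff J.subschemeι
        ((Scheme.Modules.pullback J.subschemeι).obj ((Scheme.Modules.pullback ι).obj (Twist.twistProjSpace n k i))) p).1
        ‹_›)
  · refine surjective_pullSect_comp J.subschemeι ι _ (hY.2 (by omega) i) ?_
    obtain ⟨g, w, hS⟩ := exists_restriction_seq hinv (hN i)
    haveI := hS.epi_g
    exact SerreAff.surjective_top (FormalSys.iqπ J ((Scheme.Modules.pullback ι).obj (Twist.twistProjSpace n k i)))
      (subsingleton_HH_of_iso (hS.fIsKernel.conePointUniqueUpToIso (kernelIsKernel _)) 1 (hvan i 1 one_pos (by omega)))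

theorem ker_comp_step {r : ℕ} {a : Fin (r + 1) → ℕ} (G : ∀ j : Fin (r + 1), LefPen.Form n k (a j)) :
    (((LefPen.hypIdeal (G (Fin.last r))).comap (LefPen.ciIdeal (fun j : Fin r => G j.castSucc)).subschemeι).subschemeι ≫
      (LefPen.ciIdeal (fun j : Fin r => G j.castSucc)).subschemeι).ker = LefPen.ciIdeal G := by
  rw [Scheme.Hom.ker_comp, Scheme.IdealSheafData.ker_subschemeι, Groth.Agent.S7631.map_comap_eq_sup,
    Scheme.IdealSheafData.ker_subschemeι, LefPen.ciIdeal, LefPen.ciIdeal]
  refine le_antisymm (sup_le (le_iSup (fun j => LefPen.hypIdeal (G j)) (Fin.last r))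
    (iSup_le fun j => le_iSup (fun j => LefPen.hypIdeal (G j)) j.castSucc)) (iSup_le fun j => ?_)
  refine Fin.lastCases le_sup_left (fun i => ?_) j
  exact le_sup_of_le_right (le_iSup (fun i : Fin r => LefPen.hypIdeal (G i.castSucc)) i)

/-- Twists on a complete intersection. -/
theorem twistCI_ciIdeal : ∀ (r : ℕ) {a : Fin r → ℕ} (_ : ∀ j, 1 ≤ a j) (G : ∀ j : Fin r, LefPen.Form n k (a j))
    (_ : r ≤ n) (_ : topologicalKrullDim ↥(LefPen.ciIdeal G).subscheme = ((n - r : ℕ) : WithBot ℕ∞)),
    TwistCI (LefPen.ciIdeal G).subschemeι (n - r) := by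
  intro r
  induction r with
  | zero =>
    intro a ha G hr hdim
    haveI : IsIso (LefPen.ciIdeal G).subschemeι := by
      refine IsClosedImmersion.isIso_of_ker_eq (LefPen.ciIdeal G).subschemeι (𝟙 _) _ (Category.comp_id _) ?_
      rw [Scheme.IdealSheafData.ker_subschemeι, Scheme.Hom.ker_eq_bot_of_isIso, LefPen.ciIdeal, iSup_of_empty]
    exact twistCI_iso_comp (LefPen.ciIdeal G).subschemeι (𝟙 _) _ (Category.comp_id _) (Nat.sub_zero n ▸ twistCI_id)
  | succ r ih =>
    intro a ha G hr hdim
    have hp := dim_prefix ha G hr hdim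
    have h1 := ih (fun j => ha j.castSucc) (fun j : Fin r => G j.castSucc) (by omega) hp
    rw [show n - r = n - (r + 1) + 1 by omega] at h1
    have h2 := twistCI_divisor _ h1 (nonempty_idealMod_step ha G hr hdim)
    let j := ((LefPen.hypIdeal (G (Fin.last r))).comap (LefPen.ciIdeal (fun j : Fin r => G j.castSucc)).subschemeι).subschemeι ≫
      (LefPen.ciIdeal (fun j : Fin r => G j.castSucc)).subschemeι
    have hk : j.ker = (LefPen.ciIdeal G).subschemeι.ker :=
      (ker_comp_step G).trans (Scheme.IdealSheafData.ker_subschemeι _).symm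
    let φ := IsClosedImmersion.lift j (LefPen.ciIdeal G).subschemeι hk.le
    have hφ : φ ≫ j = (LefPen.ciIdeal G).subschemeι := IsClosedImmersion.lift_fac _ _ _
    haveI : IsIso φ := IsClosedImmersion.isIso_of_ker_eq (LefPen.ciIdeal G).subschemeι j φ hφ hk.symm
    exact twistCI_iso_comp φ j _ hφ h2

end Groth.Agent.CIProjLib
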