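import Groth.Agent.HypSurfLib.Coh
import Groth.Agent.K0PnLib.Euler
import Groth.Agent.CurveLib.TensorExact
import Groth.Agent.IntLib.Divisor
import Groth.Agent.HilbLib.Basic
import Groth.Agent.REqLib.P1Irred
import Groth.Agent.FinSurjLib.Vanish
import Groth.Agent.CMRegLib.Seq
import Groth.Agent.S1622
import Groth.Agent.S8914
import Groth.Agent.S10829
import Groth.Agent.S10830

/-!
# Cohomology of twists of a hypersurface given by its ideal module
-/

set_option autoImplicit false
set_option backward.isDefEq.respectTransparency false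
set_option linter.style.haveILetI false
set_option maxHeartbeats 800000

universe u

open CategoryTheory CategoryTheory.Limits AlgebraicGeometry TopologicalSpace

noncomputable section

namespace Groth.Agent.CIProjLib

variable {N : ℕ} {F : Type u} [Field F]

local notation "P" => CohB1.ProjSpace N F
local notation "h" => fun (e : ℤ) (q : ℕ) => HypSurfLib.hT N F e q

theorem finite_twist (e : ℤ) (q : ℕ) : Module.Finite F (Coh.HH P (Twist.twistProjSpace N F e) q) := by
  haveI : IsProper (P ↘ Spec (CommRingCat.of F)) := inferInstanceAs (IsProper (CohB1.ProjSpace.toSpec N F))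
  haveI := EulerIneqLib.isNoetherian_proper (X := P) F
  exact EulerIneqLib.finite_HH (k := F) (CurveLib.isCoh_of_isInvertible (HypSurfLib.isInvertible_twist e)) q

theorem hT_zero (hN : 1 ≤ N) (e : ℤ) : HypSurfLib.hT N F e 0 = Nat.choose (e + (N : ℤ)).toNat N := by
  rcases lt_or_ge e 0 with he | he
  · haveI : Subsingleton (Coh.HH P (Twist.twistProjSpace N F e) 0) :=
      ProjTwist.subsingleton_HH N F e 0 (by omega) (by omega)
    rw [HypSurfLib.hT, Module.finrank_zero_of_subsingleton, Nat.choose_eq_zero_of_lt (by omega)]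
  · obtain ⟨m, rfl⟩ := Int.eq_ofNat_of_zero_le he
    obtain ⟨w⟩ := ProjTwist.nonempty_H0 N F m
    rw [HypSurfLib.hT, w.finrank_eq, S4466.finrank_forms F N m]
    congr 1

theorem hT_top (hN : 1 ≤ N) (e : ℤ) : HypSurfLib.hT N F e N = Nat.choose (-e - 1).toNat N := by
  rcases lt_or_ge (-((N : ℤ) + 1)) e with he | he
  · haveI : Subsingleton (Coh.HH P (Twist.twistProjSpace N F e) N) :=
      ProjTwist.subsingleton_HH N F e N (by omega) (by omega)
    rw [HypSurfLib.hT, Module.finrank_zero_of_subsingleton, Nat.choose_eq_zero_of_lt (by omega)]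
  · obtain ⟨m, hm⟩ := Int.le.dest he
    obtain ⟨w⟩ := ProjTwist.nonempty_top (n := N) (R := F) m
    rw [HypSurfLib.hT, show e = -((N : ℤ) + 1 + m) by omega, w.finrank_eq, S4466.finrank_forms F N m]
    congr 1
    omega

/-- The long exact sequence as a count of dimensions. -/
theorem finrank_count {X : Scheme.{u}} [X.Over (Spec (CommRingCat.of F))] {S : ShortComplex X.Modules}
    (hS : S.ShortExact) (p : ℕ) [Module.Finite F (Coh.HH X S.X₂ p)] [Module.Finite F (Coh.HH X S.X₃ p)] :
    Module.finrank F (Coh.HH X S.X₃ p) + Module.finrank F (LinearMap.range (CurveLib.hMap (k := F) S.f p)) =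
      Module.finrank F (Coh.HH X S.X₂ p) + Module.finrank F (LinearMap.ker (CurveLib.hMap (k := F) S.f (p + 1))) := by
  have h1 := LinearMap.finrank_range_add_finrank_ker (CurveLib.hδ (k := F) hS p)
  have h2 := LinearMap.finrank_range_add_finrank_ker (CurveLib.hMap (k := F) S.g p)
  rw [CurveLib.range_hδ, ← CurveLib.range_hMap_g] at h1
  rw [← CurveLib.range_hMap_f hS] at h2
  omega

variable {k : ℕ} (I : (CohB1.ProjSpace N F).IdealSheafData)
  (hI : Nonempty (ClSub.idealMod I ≅ Twist.twistProjSpace N F (-(k : ℤ))))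

local notation "Q" => fun (n : ℤ) => CohB1.tensorMod (ClSub.quotMod I) (Twist.twistProjSpace N F n)

include hI in
theorem exists_seq_twist (n : ℤ) :
    ∃ (f : Twist.twistProjSpace N F (n - (k : ℤ)) ⟶ Twist.twistProjSpace N F n)
      (g : Twist.twistProjSpace N F n ⟶ CohB1.tensorMod (ClSub.quotMod I) (Twist.twistProjSpace N F n))
      (w : f ≫ g = 0), (ShortComplex.mk f g w).ShortExact := by
  obtain ⟨e⟩ := hI
  haveI := Groth.Agent.SerreAff.epi_unitToPush I.subschemeι
  haveI : Mono (ClSub.idealModι I) := inferInstanceAs (Mono (kernel.ι _))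
  let S : ShortComplex (CohB1.ProjSpace N F).Modules := ShortComplex.mk (ClSub.idealModι I) (ClSub.toSubscheme I) (kernel.condition _)
  have hS : S.ShortExact := ShortComplex.ShortExact.mk'
    (ShortComplex.exact_of_f_is_kernel _ (kernelIsKernel _)) (inferInstanceAs (Mono (ClSub.idealModι I)))
    (inferInstanceAs (Epi (ClSub.toSubscheme I)))
  let T := S.map (CurveLib.tensR (Twist.twistProjSpace N F n))
  have hT : T.ShortExact :=
    CurveLib.shortExact_tensR hS (CurveLib.freeAt_one_of_isInvertible (HypSurfLib.isInvertible_twist n))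
  let e₁ : Twist.twistProjSpace N F (n - (k : ℤ)) ≅ T.X₁ :=
    (AmpleLib.tIso e (Iso.refl _) ≪≫ K0PnLib.twistAddIso F N (show -(k : ℤ) + n = n - k by ring)).symm
  let e₂ : T.X₂ ≅ Twist.twistProjSpace N F n := CurveLib.tmodUnit _
  let w : (e₁.hom ≫ T.f ≫ e₂.hom) ≫ e₂.inv ≫ T.g = 0 := by simp [T.zero]
  exact ⟨_, _, w, ShortComplex.shortExact_of_iso
    (ShortComplex.isoMk (S₁ := T) (S₂ := ShortComplex.mk _ _ w) e₁.symm e₂ (Iso.refl _) (by simp) (by simp)) hT⟩

include hI in
theorem subsingleton_high (hN : 1 ≤ N) (n : ℤ) (p : ℕ) (hp : N ≤ p) : Subsingleton (Coh.HH P (Q n) p) := by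
  haveI : IsProper (P ↘ Spec (CommRingCat.of F)) := inferInstanceAs (IsProper (CohB1.ProjSpace.toSpec N F))
  haveI := EulerIneqLib.isNoetherian_proper (X := P) F
  haveI := REqLib.isIntegral_projSpace N F
  obtain ⟨e⟩ := hI
  have hD : BlowUp.IsEffCartierIdeal I :=
    (Groth.Agent.S8914.result _).1 (ParaFLib.isInvertible_of_iso e.symm (HypSurfLib.isInvertible_twist _))
  have hne : (I.support : Set P) ≠ Set.univ := fun hu => by
    have hd := Groth.Agent.S1622.dense_compl_support I hD
    rw [hu, Set.compl_univ] at hd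
    have := hd.nonempty
    exact Set.not_nonempty_empty this
  have hlt := Groth.Agent.S10830.result P (by rw [Groth.Agent.S10829.result F N]; exact WithBot.coe_injective.ne (ENat.natCast_ne_top N)) _
    I.support.isClosed hne
  rw [Groth.Agent.S10829.result F N] at hlt
  have hle : topologicalKrullDim ↥(I.support : Set P) ≤ ((N - 1 : ℕ) : WithBot ℕ∞) := by
    generalize topologicalKrullDim ↥(I.support : Set P) = d at hlt
    induction d with
    | bot => exact bot_le
    | coe d =>
      have h1 : d < (N : ℕ∞) := WithBot.coe_lt_coe.1 hlt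
      obtain ⟨d, rfl⟩ := ENat.ne_top_iff_exists.1 (ne_top_of_lt h1)
      have : d ≤ N - 1 := by have := ENat.natCast_lt_natCast.1 h1; omega
      exact WithBot.coe_le_coe.2 (by exact_mod_cast this)
  refine CurveLib.subsingleton_HH_of_support _ I.support.isClosed ?_ hle (by omega)
  have hs := HilbLib.support_tensor (X := CohB1.ProjSpace N F) (L := Twist.twistProjSpace N F n)
    (HypSurfLib.isInvertible_twist n) (ClSub.quotMod I)
  intro x hx
  refine IntLib.support_quotMod_subset I ?_
  rw [← hs]
  exact hx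

include hI in
theorem subsingleton_mid (n : ℤ) (p : ℕ) (hp : 1 ≤ p) (hpN : p + 1 < N) : Subsingleton (Coh.HH P (Q n) p) := by
  obtain ⟨f, g, w, hS⟩ := exists_seq_twist I hI n
  exact FinSurjLib.subsingleton_right hS p (ProjTwist.subsingleton_HH N F n p (by omega) (by omega))
    (ProjTwist.subsingleton_HH N F (n - (k : ℤ)) (p + 1) (by omega) (by omega))

theorem isCoh_Q (n : ℤ) : Coh.IsCoh (Q n) := by
  haveI : IsProper (P ↘ Spec (CommRingCat.of F)) := inferInstanceAs (IsProper (CohB1.ProjSpace.toSpec N F))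
  haveI := EulerIneqLib.isNoetherian_proper (X := P) F
  exact CMRegLib.isCoh_tensor_inv (IntLib.isCoh_quotMod I) (HypSurfLib.isInvertible_twist n)

theorem finite_Q (n : ℤ) (p : ℕ) : Module.Finite F (Coh.HH P (Q n) p) := by
  haveI : IsProper (P ↘ Spec (CommRingCat.of F)) := inferInstanceAs (IsProper (CohB1.ProjSpace.toSpec N F))
  haveI := EulerIneqLib.isNoetherian_proper (X := P) F
  exact EulerIneqLib.finite_HH (k := F) (isCoh_Q I n) p

include hI in
/-- The two interesting degrees. -/
theorem finrank_Q (hN : 1 ≤ N) (n : ℤ) :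
    (2 ≤ N → Module.finrank F (Coh.HH P (Q n) 0) =
      Nat.choose (n + (N : ℤ)).toNat N - Nat.choose (n - (k : ℤ) + (N : ℤ)).toNat N) ∧
    (2 ≤ N → Module.finrank F (Coh.HH P (Q n) (N - 1)) =
      Nat.choose ((k : ℤ) - n - 1).toNat N - Nat.choose (-n - 1).toNat N) ∧
    (N = 1 → Module.finrank F (Coh.HH P (Q n) 0) =
      (Nat.choose (n + (N : ℤ)).toNat N - Nat.choose (n - (k : ℤ) + (N : ℤ)).toNat N) +
      (Nat.choose ((k : ℤ) - n - 1).toNat N - Nat.choose (-n - 1).toNat N)) := by
  obtain ⟨f, g, w, hS⟩ := exists_seq_twist I hI n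
  haveI := fun p => finite_twist (N := N) (F := F) n p
  haveI := fun p => finite_twist (N := N) (F := F) (n - (k : ℤ)) p
  haveI := fun p => finite_Q I n p
  let fh := fun p => CurveLib.hMap (k := F) (ShortComplex.mk f g w).f p
  have cnt := fun p => finrank_count (F := F) hS p
  have hrk : ∀ p, Module.finrank F (LinearMap.range (fh p)) + Module.finrank F (LinearMap.ker (fh p)) =
      HypSurfLib.hT N F (n - (k : ℤ)) p := fun p => LinearMap.finrank_range_add_finrank_ker (fh p)
  have h0 : Module.finrank F (LinearMap.ker (fh 0)) = 0 := by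
    rw [LinearMap.ker_eq_bot.2 (CurveLib.hMap_f_zero_injective (k := F) hS)]; simp
  haveI : Subsingleton (Coh.HH P (Q n) N) := subsingleton_high I hI hN n N le_rfl
  have hsurj : Module.finrank F (LinearMap.range (fh N)) = HypSurfLib.hT N F n N := by
    have h1 : LinearMap.ker (CurveLib.hMap (k := F) (ShortComplex.mk f g w).g N) = ⊤ :=
      LinearMap.ker_eq_top.2 (LinearMap.ext fun x => Subsingleton.elim (α := Coh.HH P (Q n) N) _ _)
    rw [← CurveLib.range_hMap_f hS] at h1
    exact (congrArg (fun (m : Submodule F _) => Module.finrank F m) h1).trans (finrank_top _ _)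
  have hv : ∀ (e : ℤ) (p : ℕ), 1 ≤ p → p < N → HypSurfLib.hT N F e p = 0 := fun e p h1 h2 => by
    haveI : Subsingleton (Coh.HH P (Twist.twistProjSpace N F e) p) :=
      ProjTwist.subsingleton_HH N F e p (by omega) (by omega)
    exact Module.finrank_zero_of_subsingleton
  have a0 := hrk 0
  have b0 := hrk 1
  have c0 := cnt 0
  have aN := hrk N
  have hle : Module.finrank F (LinearMap.range (fh 0)) ≤ HypSurfLib.hT N F n 0 := Submodule.finrank_le _
  have z0 := hT_zero (F := F) hN n
  have z1 := hT_zero (F := F) hN (n - (k : ℤ))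
  have t0 := hT_top (F := F) hN n
  have t1 := hT_top (F := F) hN (n - (k : ℤ))
  rw [show -(n - (k : ℤ)) - 1 = (k : ℤ) - n - 1 by ring] at t1
  dsimp only at c0
  change _ + Module.finrank F (LinearMap.range (fh 0)) = HypSurfLib.hT N F n 0 + _ at c0
  refine ⟨fun h2 => ?_, fun h2 => ?_, fun h1 => ?_⟩
  · have := hv (n - (k : ℤ)) 1 le_rfl (by omega)
    change Module.finrank F (Coh.HH P (Q n) 0) + _ = _ + Module.finrank F (LinearMap.ker (fh 1)) at c0
    omega
  · have c1 := cnt (N - 1)
    change Module.finrank F (Coh.HH P (Q n) (N - 1)) + Module.finrank F (LinearMap.range (fh (N - 1))) =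
      HypSurfLib.hT N F n (N - 1) + Module.finrank F (LinearMap.ker (fh (N - 1 + 1))) at c1
    rw [show N - 1 + 1 = N by omega] at c1
    have := hv (n - (k : ℤ)) (N - 1) (by omega) (by omega)
    have := hv n (N - 1) (by omega) (by omega)
    have := hrk (N - 1)
    omega
  · have e1 : Module.finrank F (LinearMap.ker (fh 1)) = Module.finrank F (LinearMap.ker (fh N)) := by
      cases h1
      rfl
    change Module.finrank F (Coh.HH P (Q n) 0) + _ = _ + Module.finrank F (LinearMap.ker (fh 1)) at c0
    omega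

end Groth.Agent.CIProjLib
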