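import Groth.Agent.CIProjLib.Coh
import Groth.Agent.FlatDepth.Fibres
import Groth.Agent.PicLiftLib.Main
import Groth.Agent.ParaFLib.Local
import Groth.Agent.AmpleLib.Basis
import Groth.Agent.S10960
import Groth.Agent.S10962
import Groth.Agent.S2949
import Groth.Agent.S3353

/-!
# The Picard group of a complete intersection of dimension at least three
-/

set_option autoImplicit false
set_option backward.isDefEq.respectTransparency false
set_option linter.style.haveILetI false

universe u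

open CategoryTheory CategoryTheory.Limits AlgebraicGeometry TopologicalSpace Opposite IsLocalRing
open Groth.Agent.PullbackMod

noncomputable section

namespace Groth.Agent.CIProjLib

variable {n : ℕ} {k : Type u} [Field k]

/-- The Picard group is free on the hyperplane class. -/
def PicFree {X : Scheme.{u}} (f : X ⟶ CohB1.ProjSpace n k) : Prop :=
  (∀ L : X.Modules, PicF.IsInvertible L →
    ∃ e : ℤ, Nonempty (L ≅ (Scheme.Modules.pullback f).obj (Twist.twistProjSpace n k e))) ∧
  ∀ e : ℤ, Nonempty ((Scheme.Modules.pullback f).obj (Twist.twistProjSpace n k e) ≅ Coh.structureModule X) → e = 0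

theorem picFree_iso_comp {X X' : Scheme.{u}} (φ : X ⟶ X') [IsIso φ] (g : X' ⟶ CohB1.ProjSpace n k)
    (f : X ⟶ CohB1.ProjSpace n k) (h : φ ≫ g = f) (hg : PicFree g) : PicFree f := by
  subst h
  refine ⟨fun L hL => ?_, fun e ⟨w⟩ => hg.2 e ⟨?_⟩⟩
  · obtain ⟨e, ⟨w⟩⟩ := hg.1 _ (AmpleLib.isInvertible_pullback (inv φ) hL)
    exact ⟨e, ⟨((Scheme.Modules.pullbackId X).app L).symm ≪≫
      ((Scheme.Modules.pullbackCongr (IsIso.hom_inv_id φ).symm).app L) ≪≫
      ((Scheme.Modules.pullbackComp φ (inv φ)).app L).symm ≪≫ (Scheme.Modules.pullback φ).mapIso w ≪≫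
      (Scheme.Modules.pullbackComp φ g).app _⟩⟩
  · exact ((Scheme.Modules.pullbackCongr (IsIso.inv_hom_id_assoc φ g).symm).app _) ≪≫
      ((Scheme.Modules.pullbackComp (inv φ) (φ ≫ g)).app _).symm ≪≫
      (Scheme.Modules.pullback (inv φ)).mapIso w ≪≫ AmpleLib.pullO (inv φ)

theorem picFree_id (hn : 1 ≤ n) : PicFree (𝟙 (CohB1.ProjSpace n k)) := by
  refine ⟨fun L hL => ?_, fun e ⟨w⟩ => ?_⟩
  · obtain ⟨e, ⟨w⟩, -⟩ := Groth.Agent.S10960.result k n hn L hL
    exact ⟨e, ⟨w ≪≫ ((Scheme.Modules.pullbackId _).app _).symm⟩⟩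
  · obtain ⟨d, -, hu⟩ := Groth.Agent.S10960.result k n hn _ (HypSurfLib.isInvertible_twist (r := n) (k := k) e)
    exact (hu e ⟨Iso.refl _⟩).trans (hu 0 ⟨((Scheme.Modules.pullbackId _).app _).symm ≪≫ w ≪≫
      @asIso _ _ _ _ (ProjCoh.unitToTwist (CohB1.polyGrading n k)) ProjCoh.isIso_unitToTwist⟩).symm

/-- Twists add after pullback. -/
def pullTwistAdd {Y : Scheme.{u}} (ι : Y ⟶ CohB1.ProjSpace n k) {a b c : ℤ} (h : a + b = c) :
    CohB1.tensorMod ((Scheme.Modules.pullback ι).obj (Twist.twistProjSpace n k a))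
      ((Scheme.Modules.pullback ι).obj (Twist.twistProjSpace n k b)) ≅
      (Scheme.Modules.pullback ι).obj (Twist.twistProjSpace n k c) :=
  (AmpleLib.pullTensor ι _ _).symm ≪≫ (Scheme.Modules.pullback ι).mapIso (K0PnLib.twistAddIso k n h)

/-- The zero twist pulls back to the structure sheaf. -/
def pullTwistZero {Y : Scheme.{u}} (ι : Y ⟶ CohB1.ProjSpace n k) :
    (Scheme.Modules.pullback ι).obj (Twist.twistProjSpace n k 0) ≅ Coh.structureModule Y :=
  (Scheme.Modules.pullback ι).mapIso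
    (@asIso _ _ _ _ (ProjCoh.unitToTwist (CohB1.polyGrading n k)) ProjCoh.isIso_unitToTwist).symm ≪≫
    AmpleLib.pullO ι

theorem nonempty_tensorPow {Y : Scheme.{u}} (ι : Y ⟶ CohB1.ProjSpace n k) {M : Y.Modules} {b : ℤ}
    (e : M ≅ (Scheme.Modules.pullback ι).obj (Twist.twistProjSpace n k b)) :
    ∀ m : ℕ, Nonempty (CohB1.tensorPow M m ≅ (Scheme.Modules.pullback ι).obj (Twist.twistProjSpace n k (m * b))) := by
  intro m
  induction m with
  | zero =>
    rw [Nat.cast_zero, zero_mul]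
    exact ⟨(pullTwistZero ι).symm⟩
  | succ m ih =>
    obtain ⟨w⟩ := ih
    exact ⟨AmpleLib.tIso w e ≪≫ pullTwistAdd ι (by push_cast; ring)⟩

/-- Local rings of a complete intersection at closed points. -/
theorem local_facts {r : ℕ} {a : Fin r → ℕ} (G : ∀ j : Fin r, LefPen.Form n k (a j)) (hr : r + 4 ≤ n)
    (hdim : topologicalKrullDim ↥(LefPen.ciIdeal G).subscheme = ((n - r : ℕ) : WithBot ℕ∞))
    (y : (LefPen.ciIdeal G).subscheme) (hy : IsClosed ({y} : Set (LefPen.ciIdeal G).subscheme)) :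
    (2 : ℕ∞) ≤ LocCoh.depth ((LefPen.ciIdeal G).subscheme.presheaf.stalk y)
      ((LefPen.ciIdeal G).subscheme.presheaf.stalk y) ∧
    ParaF.IsParafactorialLocalRing ((LefPen.ciIdeal G).subscheme.presheaf.stalk y) := by
  let ι := (LefPen.ciIdeal G).subschemeι
  have hy' : IsClosed ({ι y} : Set (CohB1.ProjSpace n k)) := by
    rw [← Set.image_singleton]; exact ι.isClosedEmbedding.isClosedMap _ hy
  obtain ⟨i, hi⟩ := exists_chart (ι y)
  haveI := isRegularLocalRing_stalk (n := n) (k := k) (ι y)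
  have hsupp : ι y ∈ (LefPen.ciIdeal G).support := by
    rw [← SetLike.mem_coe, ← Scheme.IdealSheafData.range_subschemeι]; exact ⟨y, rfl⟩
  let rs := List.ofFn fun j => germF (G j) i (ι y) hi
  have hm := germ_mem_maximal G hsupp hi
  have hreg : RingTheory.Sequence.IsRegular ((CohB1.ProjSpace n k).presheaf.stalk (ι y)) rs :=
    ⟨isWeaklyRegular_germs G (by omega) hdim hy' hi, by
      rw [smul_eq_mul, Ideal.mul_top]; exact (PicLiftLib.ofList_ne_top hm).symm⟩
  have hker : RingHom.ker (ι.stalkMap y).hom = Ideal.ofList rs :=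
    (IdealStalkLib.ker_stalkMap_subschemeι (LefPen.ciIdeal G) y).trans (stalkIdeal_ciIdeal _ i _ hi)
  let e : ((CohB1.ProjSpace n k).presheaf.stalk (ι y)) ⧸ Ideal.ofList rs ≃+*
      (LefPen.ciIdeal G).subscheme.presheaf.stalk y :=
    (Ideal.quotEquivOfEq hker.symm).trans (RingHom.quotientKerEquivOfSurjective (ι.stalkMap_surjective y))
  haveI : IsLocalRing (((CohB1.ProjSpace n k).presheaf.stalk (ι y)) ⧸ Ideal.ofList rs) :=
    e.symm.isLocalRing
  haveI : IsNoetherianRing ((LefPen.ciIdeal G).subscheme.presheaf.stalk y) := isNoetherianRing_of_ringEquiv _ e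
  have hlen : rs.length = r := List.length_ofFn
  have hnr : ((n : ℕ) : WithBot ℕ∞) = (((n - r : ℕ) : ℕ∞) : WithBot ℕ∞) + r := by
    exact_mod_cast (show n = n - r + r by omega)
  have hd1 := PicLiftLib.depth_ci hm hreg
  have hd2 := PicLiftLib.dim_ci hm hreg
  rw [hlen, dim_stalk_closed hy', hnr] at hd1 hd2
  have hdep := PicLiftLib.withBot_cancel hd1.ge
  have hdim' := PicLiftLib.withBot_cancel hd2.ge
  rw [← FlatDepth.depth_eq_of_ringEquiv e] at hdep
  rw [ringKrullDim_eq_of_ringEquiv e] at hdim'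
  refine ⟨le_trans ?_ (WithBot.coe_le_coe.1 hdep), Groth.Agent.S3353.result _ ?_ (le_trans ?_ hdim')⟩
  · exact_mod_cast (show 2 ≤ n - r by omega)
  · exact ⟨_, inferInstance, inferInstance, rs, hm, hreg, ⟨e.symm⟩⟩
  · exact WithBot.coe_le_coe.2 (Nat.ofNat_le_cast.2 (show 4 ≤ n - r by omega))

/-- One step. -/
theorem picFree_step {r : ℕ} {a : Fin (r + 1) → ℕ} (ha : ∀ j, 1 ≤ a j)
    (G : ∀ j : Fin (r + 1), LefPen.Form n k (a j)) (hr : r + 1 + 3 ≤ n)
    (hdim : topologicalKrullDim ↥(LefPen.ciIdeal G).subscheme = ((n - (r + 1) : ℕ) : WithBot ℕ∞))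
    (hY : PicFree (LefPen.ciIdeal (fun j : Fin r => G j.castSucc)).subschemeι) :
    PicFree (LefPen.ciIdeal G).subschemeι := by
  have hp := dim_prefix ha G (by omega) hdim
  let ι := (LefPen.ciIdeal (fun j : Fin r => G j.castSucc)).subschemeι
  let Y := (LefPen.ciIdeal (fun j : Fin r => G j.castSucc)).subscheme
  let J := (LefPen.hypIdeal (G (Fin.last r))).comap ι
  obtain ⟨eJ⟩ := nonempty_idealMod_step ha G (by omega) hdim
  let A := a (Fin.last r)
  letI : Y.Over (Spec (CommRingCat.of k)) := ⟨ι ≫ CohB1.ProjSpace.toSpec n k⟩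
  haveI : IsProper (Y ↘ Spec (CommRingCat.of k)) := inferInstanceAs (IsProper (ι ≫ CohB1.ProjSpace.toSpec n k))
  have hTY := twistCI_ciIdeal r (fun j => ha j.castSucc) (fun j : Fin r => G j.castSucc) (by omega) hp
  rw [show n - r = n - (r + 1) + 1 by omega] at hTY
  have hTX : TwistCI (J.subschemeι ≫ ι) (n - (r + 1)) := twistCI_divisor ι hTY ⟨eJ⟩
  have hL : ClSub.IsInverseOf ((Scheme.Modules.pullback ι).obj (Twist.twistProjSpace n k (A : ℤ)))
      (ClSub.idealMod J) :=
    ⟨AmpleLib.tIso (Iso.refl _) eJ ≪≫ pullTwistAdd ι (add_neg_cancel (A : ℤ)) ≪≫ pullTwistZero ι⟩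
  have hamp : CohB1.IsAmple ((Scheme.Modules.pullback ι).obj (Twist.twistProjSpace n k (A : ℤ))) := by
    have h := (Groth.Agent.S10962.result k n (by omega) (A : ℤ)).2 (by exact_mod_cast ha (Fin.last r))
    haveI := h.2.1
    haveI : CompactSpace Y := QuasiCompact.compactSpace_of_compactSpace ι
    exact AmpleLib.isAmple_pullback_of_isInducing ι ι.isEmbedding.isInducing h
  have hH : ∀ m : ℕ, 1 ≤ m → ∀ i : ℕ, (i = 1 ∨ i = 2) → Subsingleton (Coh.HH Y
      ((DCoh.tensorBi.obj (CohB1.tensorPow (ClSub.idealMod J) m)).obj (ClSub.quotMod J)) i) := by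
    intro m _ i hi
    obtain ⟨w⟩ := nonempty_tensorPow ι eJ m
    let b : ℤ := (m : ℤ) * (-(A : ℤ))
    let E := (Scheme.Modules.pullback ι).obj (Twist.twistProjSpace n k b)
    have hE : PicF.IsInvertible E := AmpleLib.isInvertible_pullback ι (HypSurfLib.isInvertible_twist b)
    let u : CohB1.tensorMod (Coh.structureModule J.subscheme) ((Scheme.Modules.pullback J.subschemeι).obj E) ≅
        (Scheme.Modules.pullback (J.subschemeι ≫ ι)).obj (Twist.twistProjSpace n k b) :=
      CurveLib.tmodUnit _ ≪≫ (Scheme.Modules.pullbackComp J.subschemeι ι).app _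
    have hs : Subsingleton (Coh.HH J.subscheme
        (CohB1.tensorMod (Coh.structureModule J.subscheme) ((Scheme.Modules.pullback J.subschemeι).obj E)) i) :=
      subsingleton_HH_of_iso u.symm i (hTX.1 b i (by omega) (by omega))
    haveI : Coh.IsQCoh (DCohLib.tmod (Coh.structureModule J.subscheme)
        ((Scheme.Modules.pullback J.subschemeι).obj E)) :=
      InvExt.isQCoh_of_isInvertible (ParaFLib.isInvertible_of_iso u.symm
        (AmpleLib.isInvertible_pullback _ (HypSurfLib.isInvertible_twist b)))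
    exact subsingleton_HH_of_iso ((AmpleLib.comm _ _) ≪≫ AmpleLib.tIso w.symm (Iso.refl _)) i
      (FinSurjLib.subsingleton_push_tmod J.subschemeι hE (Coh.structureModule J.subscheme) i hs)
  obtain ⟨hinj, hsurj⟩ := Groth.Agent.S2949.result k Y J _ hL hamp
    (fun y hy => (local_facts (fun j : Fin r => G j.castSucc) (by omega) hp y hy).1) hH
    (fun y hy _ => ((ParaFLib.isParafactorialLocalRing_iff _).1
      (local_facts (fun j : Fin r => G j.castSucc) (by omega) hp y hy).2).2)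
  have hX : PicFree (J.subschemeι ≫ ι) := by
    refine ⟨fun L hL => ?_, fun e ⟨w⟩ => hY.2 e ?_⟩
    · obtain ⟨M, hM, ⟨v⟩⟩ := hsurj L hL
      obtain ⟨e, ⟨v'⟩⟩ := hY.1 M hM
      exact ⟨e, ⟨v.symm ≪≫ (Scheme.Modules.pullback J.subschemeι).mapIso v' ≪≫
        (Scheme.Modules.pullbackComp J.subschemeι ι).app _⟩⟩
    · exact hinj _ _ (AmpleLib.isInvertible_pullback ι (HypSurfLib.isInvertible_twist e))
        (ParaFLib.isInvertible_of_iso (pullTwistZero ι) (AmpleLib.isInvertible_pullback ι (HypSurfLib.isInvertible_twist 0)))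
        ⟨(Scheme.Modules.pullbackComp J.subschemeι ι).app _ ≪≫ w ≪≫ (AmpleLib.pullO J.subschemeι).symm⟩
  have hk : (J.subschemeι ≫ ι).ker = (LefPen.ciIdeal G).subschemeι.ker :=
    (ker_comp_step G).trans (Scheme.IdealSheafData.ker_subschemeι _).symm
  let φ := IsClosedImmersion.lift (J.subschemeι ≫ ι) (LefPen.ciIdeal G).subschemeι hk.le
  have hφ : φ ≫ J.subschemeι ≫ ι = (LefPen.ciIdeal G).subschemeι := IsClosedImmersion.lift_fac _ _ _
  haveI : IsIso φ := IsClosedImmersion.isIso_of_ker_eq _ _ φ hφ hk.symm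
  exact picFree_iso_comp φ _ _ hφ hX

/-- Complete intersections of dimension at least three. -/
theorem picFree_ciIdeal : ∀ (r : ℕ) {a : Fin r → ℕ} (_ : ∀ j, 1 ≤ a j) (G : ∀ j : Fin r, LefPen.Form n k (a j))
    (_ : r + 3 ≤ n) (_ : topologicalKrullDim ↥(LefPen.ciIdeal G).subscheme = ((n - r : ℕ) : WithBot ℕ∞)),
    PicFree (LefPen.ciIdeal G).subschemeι := by
  intro r
  induction r with
  | zero =>
    intro a ha G hr hdim
    haveI : IsIso (LefPen.ciIdeal G).subschemeι := by
      refine IsClosedImmersion.isIso_of_ker_eq (LefPen.ciIdeal G).subschemeι (𝟙 _) _ (Category.comp_id _) ?_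
      rw [Scheme.IdealSheafData.ker_subschemeι, Scheme.Hom.ker_eq_bot_of_isIso, LefPen.ciIdeal, iSup_of_empty]
    exact picFree_iso_comp (LefPen.ciIdeal G).subschemeι (𝟙 _) _ (Category.comp_id _) (picFree_id (by omega))
  | succ r ih =>
    intro a ha G hr hdim
    exact picFree_step ha G hr hdim
      (ih (fun j => ha j.castSucc) (fun j : Fin r => G j.castSucc) (by omega) (dim_prefix ha G (by omega) hdim))

end Groth.Agent.CIProjLib
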