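import Groth.Agent.CIProjLib.Basic
import Groth.Agent.JacLib.IdealPull
import Groth.Agent.S8914

/-!
# One step of a complete intersection
-/

set_option autoImplicit false
set_option backward.isDefEq.respectTransparency false
set_option backward.isDefEq.respectTransparency.types false
set_option linter.style.haveILetI false

universe u

open CategoryTheory CategoryTheory.Limits AlgebraicGeometry TopologicalSpace Opposite IsLocalRing
open Groth.Agent.InterDimLib

noncomputable section

namespace Groth.Agent.CIProjLib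

variable {n : ℕ} {k : Type u} [Field k]

local notation "P" => CohB1.ProjSpace n k

theorem mem_support_iff_germF_mem {d : ℕ} (G : LefPen.Form n k d) (i : Fin (n + 1)) (x : P)
    (hx : x ∈ LefPen.chart n k i) :
    germF G i x hx ∈ maximalIdeal ((CohB1.ProjSpace n k).presheaf.stalk x) ↔ x ∈ (LefPen.hypIdeal G).support := by
  rw [CIEquidimLib.mem_support_hypIdeal, IsLocalRing.mem_maximalIdeal, mem_nonunits_iff,
    ← not_iff_not, not_not, ← CIEquidimLib.mem_basicOpen_dehom G i x hx, Scheme.mem_basicOpen _ _ _ hx]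
  rfl

variable {r : ℕ} {a : Fin (r + 1) → ℕ} (ha : ∀ j, 1 ≤ a j) (G : ∀ j : Fin (r + 1), LefPen.Form n k (a j))
  (hr : r + 1 ≤ n) (hdim : topologicalKrullDim ↥(LefPen.ciIdeal G).subscheme = ((n - (r + 1) : ℕ) : WithBot ℕ∞))

include ha hr hdim in
theorem last_ne_zero : G (Fin.last r) ≠ 0 := by
  intro h0
  have hp := dim_prefix ha G hr hdim
  have hsupp : ((LefPen.ciIdeal G).support : Set P) = (LefPen.ciIdeal (fun j : Fin r => G j.castSucc)).support := by
    ext z
    rw [SetLike.mem_coe, SetLike.mem_coe, CIEquidimLib.mem_support_ciIdeal, CIEquidimLib.mem_support_ciIdeal,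
      Set.range_subset_iff, Set.range_subset_iff, Fin.forall_fin_succ']
    refine ⟨fun h => h.1, fun h => ⟨h, ?_⟩⟩
    rw [h0]; exact zero_mem _
  have e : ∀ J : (CohB1.ProjSpace n k).IdealSheafData,
      topologicalKrullDim ↥J.subscheme = topologicalKrullDim ↥(J.support : Set P) := fun J => by
    rw [← Scheme.IdealSheafData.range_subschemeι]
    exact IsHomeomorph.topologicalKrullDim_eq _ J.subschemeι.isEmbedding.toHomeomorph.isHomeomorph
  rw [e, hsupp, ← e, hp] at hdim
  have : n - r = n - (r + 1) := by exact_mod_cast hdim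
  omega

include hr hdim in
/-- The last form is a non-zero-divisor at the closed points. -/
theorem isSMulRegular_last {y : (LefPen.ciIdeal (fun j : Fin r => G j.castSucc)).subscheme}
    (hy : IsClosed ({(LefPen.ciIdeal (fun j : Fin r => G j.castSucc)).subschemeι y} : Set P)) {i : Fin (n + 1)}
    (hi : (LefPen.ciIdeal (fun j : Fin r => G j.castSucc)).subschemeι y ∈ LefPen.chart n k i) :
    IsSMulRegular ((LefPen.ciIdeal (fun j : Fin r => G j.castSucc)).subscheme.presheaf.stalk y)
      ((LefPen.ciIdeal (fun j : Fin r => G j.castSucc)).subschemeι.stalkMap y (germF (G (Fin.last r)) i _ hi)) := by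
  let I' := LefPen.ciIdeal (fun j : Fin r => G j.castSucc)
  let ι := I'.subschemeι
  let φ := (ι.stalkMap y).hom
  let g := germF (G (Fin.last r)) i (ι y) hi
  by_cases hg : g ∈ maximalIdeal ((CohB1.ProjSpace n k).presheaf.stalk (ι y))
  swap
  · exact ((IsLocalRing.notMem_maximalIdeal.1 hg).map φ).isSMulRegular _
  have hz : ι y ∈ (LefPen.ciIdeal G).support := by
    have h1 := (CIEquidimLib.mem_support_ciIdeal (fun j : Fin r => G j.castSucc) (ι y)).1
      (by rw [← SetLike.mem_coe, ← Scheme.IdealSheafData.range_subschemeι]; exact ⟨y, rfl⟩)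
    have h2 := (CIEquidimLib.mem_support_hypIdeal _ _).1 ((mem_support_iff_germF_mem _ i _ hi).1 hg)
    rw [CIEquidimLib.mem_support_ciIdeal, Set.range_subset_iff, Fin.forall_fin_succ']
    exact ⟨Set.range_subset_iff.1 h1, h2⟩
  rw [← SetLike.mem_coe, ← Scheme.IdealSheafData.range_subschemeι] at hz
  obtain ⟨z, hz⟩ := hz
  have key : ∀ (x : P), (LefPen.ciIdeal G).subschemeι z = x → ∀ hx : x ∈ LefPen.chart n k i,
      IsClosed ({x} : Set P) →
      RingTheory.Sequence.IsWeaklyRegular ((CohB1.ProjSpace n k).presheaf.stalk x)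
        (List.ofFn fun j => germF (G j) i x hx) := by
    rintro x rfl hx hc
    exact isWeaklyRegular_germs G hr hdim hc hx
  have hreg := key (ι y) hz hi hy
  rw [List.ofFn_succ', List.concat_eq_append, RingTheory.Sequence.isWeaklyRegular_append_iff,
    RingTheory.Sequence.isWeaklyRegular_singleton_iff] at hreg
  have hker : RingHom.ker φ = Ideal.ofList (List.ofFn fun j : Fin r => germF (G j.castSucc) i (ι y) hi) :=
    (IdealStalkLib.ker_stalkMap_subschemeι I' y).trans (stalkIdeal_ciIdeal _ i _ hi)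
  rw [isSMulRegular_iff_right_eq_zero_of_smul]
  intro c hc
  obtain ⟨b, rfl⟩ := ι.stalkMap_surjective y c
  change φ g * φ b = 0 at hc
  rw [← map_mul, ← RingHom.mem_ker, hker] at hc
  have h2 := (isSMulRegular_iff_right_eq_zero_of_smul.1 hreg.2) (Submodule.Quotient.mk b) (by
    rw [← Submodule.Quotient.mk_smul, Submodule.Quotient.mk_eq_zero, smul_eq_mul, smul_eq_mul, Ideal.mul_top]
    exact hc)
  rw [Submodule.Quotient.mk_eq_zero, smul_eq_mul, Ideal.mul_top, ← hker] at h2
  exact h2

include hr hdim in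
theorem isEffCartierIdeal_comap :
    BlowUp.IsEffCartierIdeal ((LefPen.hypIdeal (G (Fin.last r))).comap
      (LefPen.ciIdeal (fun j : Fin r => G j.castSucc)).subschemeι) := by
  let I' := LefPen.ciIdeal (fun j : Fin r => G j.castSucc)
  let ι := I'.subschemeι
  haveI := isLocallyNoetherian_projSpace (n := n) (k := k)
  haveI : JacobsonSpace I'.subscheme := LocallyOfFiniteType.jacobsonSpace (ι ≫ CohB1.ProjSpace.toSpec n k)
  intro y
  obtain ⟨i, hi⟩ := exists_chart (ι y)
  let U := chartAff n k i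
  let V : I'.subscheme.Opens := ι ⁻¹ᵁ U.1
  have hV : IsAffineOpen V := U.2.preimage ι
  refine ⟨⟨V, hV⟩, hi, ι.appLE U.1 V le_rfl (LefPen.dehom (G (Fin.last r)) i), ?_, ?_⟩
  · rw [mem_nonZeroDivisors_iff_right]
    intro c hc
    apply TopCat.Presheaf.section_ext I'.subscheme.sheaf
    intro z hz
    rw [map_zero]
    by_contra hcz
    let W : Set I'.subscheme := {w | ∀ hw : w ∈ V, I'.subscheme.presheaf.germ V w hw c ≠ 0}
    have hopen : IsOpen {w : I'.subscheme | ∃ hw : w ∈ V, I'.subscheme.presheaf.germ V w hw c = 0} := by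
      refine isOpen_iff_forall_mem_open.2 fun w ⟨hw, he⟩ => ?_
      obtain ⟨O, hwO, i₁, i₂, hO⟩ := I'.subscheme.presheaf.germ_eq w hw hw c 0 (he.trans (map_zero _).symm)
      refine ⟨O, fun v hv => ⟨i₁.le hv, ?_⟩, O.2, hwO⟩
      have h3 := congrArg (I'.subscheme.presheaf.germ O v hv) hO
      rw [TopCat.Presheaf.germ_res_apply, TopCat.Presheaf.germ_res_apply, map_zero] at h3
      exact h3
    have hW : IsLocallyClosed ((V : Set I'.subscheme) ∩ W) := by
      refine ⟨V, {w | ∃ hw : w ∈ V, I'.subscheme.presheaf.germ V w hw c = 0}ᶜ, V.2, hopen.isClosed_compl, ?_⟩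
      ext w
      exact ⟨fun h => ⟨h.1, fun ⟨hw, he⟩ => h.2 hw he⟩, fun h => ⟨h.1, fun hw he => h.2 ⟨hw, he⟩⟩⟩
    obtain ⟨w, ⟨hwV, hwW⟩, hwc⟩ := nonempty_inter_closedPoints
      (Z := (V : Set I'.subscheme) ∩ W) ⟨z, hz, fun _ => hcz⟩ hW
    refine hwW hwV ?_
    have hreg := isSMulRegular_last G hr hdim (y := w) (i := i)
      (by rw [← Set.image_singleton]; exact ι.isClosedEmbedding.isClosedMap _ hwc) hwV
    refine isSMulRegular_iff_right_eq_zero_of_smul.1 hreg _ ?_
    have h3 := congrArg (I'.subscheme.presheaf.germ V w hwV) hc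
    rw [map_mul, map_zero, mul_comm] at h3
    refine Eq.trans ?_ h3
    rw [smul_eq_mul]
    congr 1
    unfold germF
    rw [Scheme.Hom.germ_stalkMap_apply, Scheme.Hom.appLE_eq_app]
    rfl
  · rw [IdealStalkLib.comap_ideal _ ι U.2 hV le_rfl,
      show (LefPen.hypIdeal (G (Fin.last r))).ideal U = Ideal.span {LefPen.dehom (G (Fin.last r)) i} from
        le_antisymm (hypIdeal_le_chart _ i) ((Ideal.span_singleton_le_iff_mem _).2 (dehom_mem_hypIdeal _ i)),
      Ideal.map_span, Set.image_singleton]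

theorem nonempty_idealMod_hypIdeal {d : ℕ} (F : LefPen.Form n k d) (hF : F ≠ 0) :
    Nonempty (ClSub.idealMod (LefPen.hypIdeal F) ≅ Twist.twistProjSpace n k (-(d : ℤ))) := by
  obtain ⟨w, hS⟩ := HypSurfLib.exists_seq F hF
  exact ⟨(kernelIsKernel (ClSub.toSubscheme (LefPen.hypIdeal F))).conePointUniqueUpToIso hS.fIsKernel⟩

include ha hr hdim in
/-- The ideal of the last section of a complete intersection. -/
theorem nonempty_idealMod_step :
    Nonempty (ClSub.idealMod ((LefPen.hypIdeal (G (Fin.last r))).comap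
      (LefPen.ciIdeal (fun j : Fin r => G j.castSucc)).subschemeι) ≅
      (Scheme.Modules.pullback (LefPen.ciIdeal (fun j : Fin r => G j.castSucc)).subschemeι).obj
        (Twist.twistProjSpace n k (-(a (Fin.last r) : ℤ)))) := by
  obtain ⟨e⟩ := nonempty_idealMod_hypIdeal _ (last_ne_zero ha G hr hdim)
  have hJ : BlowUp.IsEffCartierIdeal (LefPen.hypIdeal (G (Fin.last r))) :=
    (Groth.Agent.S8914.result _).1 (ParaFLib.isInvertible_of_iso e.symm (HypSurfLib.isInvertible_twist _))
  obtain ⟨e'⟩ := JacLib.nonempty_iso_pullback_idealMod _ _ hJ (isEffCartierIdeal_comap G hr hdim)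
  exact ⟨e'.symm ≪≫ (Scheme.Modules.pullback _).mapIso e⟩

end Groth.Agent.CIProjLib
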