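import Groth.Agent.CIProjLib.HypCoh
import Groth.Agent.CIProjLib.Coh

/-!
# Top cohomology of twists on a complete intersection
-/

set_option autoImplicit false
set_option backward.isDefEq.respectTransparency false
set_option linter.style.haveILetI false
set_option maxHeartbeats 800000

universe u

open CategoryTheory CategoryTheory.Limits AlgebraicGeometry TopologicalSpace

noncomputable section

namespace Groth.Agent.CIProjLib

/-- A function supported on the nonnegative integers, positive there with `e` positive differences. -/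
def Good : ℕ → (ℤ → ℤ) → Prop
  | 0, f => (∀ M, M < 0 → f M = 0) ∧ ∀ M, 0 ≤ M → 0 < f M
  | e + 1, f => ((∀ M, M < 0 → f M = 0) ∧ ∀ M, 0 ≤ M → 0 < f M) ∧ Good e (fun M => f M - f (M - 1))

theorem Good.base {e : ℕ} {f : ℤ → ℤ} (h : Good e f) :
    (∀ M, M < 0 → f M = 0) ∧ ∀ M, 0 ≤ M → 0 < f M := by
  cases e with
  | zero => exact h
  | succ e => exact h.1

theorem Good.sum : ∀ {e : ℕ} {g : ℤ → ℤ} (_ : Good e g) {a : ℕ} (_ : 1 ≤ a),
    Good e (fun M => ∑ i ∈ Finset.range a, g (M - i)) := by
  have base : ∀ {g : ℤ → ℤ}, ((∀ M, M < 0 → g M = 0) ∧ ∀ M, 0 ≤ M → 0 < g M) → ∀ {a : ℕ}, 1 ≤ a →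
      ((∀ M, M < 0 → (∑ i ∈ Finset.range a, g (M - i)) = 0) ∧
        ∀ M, 0 ≤ M → 0 < ∑ i ∈ Finset.range a, g (M - i)) := by
    intro g hg a ha
    refine ⟨fun M hM => Finset.sum_eq_zero fun i _ => hg.1 _ (by omega),
      fun M hM => Finset.sum_pos' (fun i _ => ?_) ⟨0, Finset.mem_range.2 ha, ?_⟩⟩
    · rcases lt_or_ge (M - (i : ℤ)) 0 with h | h
      · exact (hg.1 _ h).ge
      · exact (hg.2 _ h).le
    · simpa using hg.2 M hM
  intro e
  induction e with
  | zero => exact fun hg a ha => base hg ha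
  | succ e ih =>
    intro g hg a ha
    refine ⟨base hg.1 ha, ?_⟩
    have h := ih hg.2 ha
    simp only [Finset.sum_sub_distrib] at h
    convert h using 2 with M
    congr 1
    exact Finset.sum_congr rfl fun i _ => congrArg g (by ring)

theorem Good.step {e : ℕ} {f : ℤ → ℤ} (h : Good (e + 1) f) {a : ℕ} (ha : 1 ≤ a) :
    Good e (fun M => f M - f (M - a)) := by
  convert h.2.sum ha using 1
  funext M
  clear ha
  induction a with
  | zero => simp
  | succ a ih =>
    rw [Finset.sum_range_succ, ← ih]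
    push_cast
    rw [show M - ((a : ℤ) + 1) = M - (a : ℤ) - 1 by ring]
    ring

/-- Number of forms. -/
def formsCount (n : ℕ) (M : ℤ) : ℤ := if 0 ≤ M then ((M.toNat + n).choose n : ℤ) else 0

theorem good_formsCount : ∀ n : ℕ, Good n (formsCount n) := by
  have base : ∀ n : ℕ, (∀ M, M < 0 → formsCount n M = 0) ∧ ∀ M, 0 ≤ M → 0 < formsCount n M := fun n =>
    ⟨fun M hM => if_neg (not_le.2 hM), fun M hM => by
      rw [formsCount, if_pos hM]; exact_mod_cast Nat.choose_pos (Nat.le_add_left _ _)⟩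
  intro n
  induction n with
  | zero => exact base 0
  | succ n ih =>
    refine ⟨base (n + 1), ?_⟩
    convert ih using 1
    funext M
    unfold formsCount
    rcases lt_trichotomy M 0 with h | rfl | h
    · rw [if_neg (by omega), if_neg (by omega), if_neg (by omega), sub_zero]
    · rw [if_pos le_rfl, if_neg (by omega), if_pos le_rfl, sub_zero]; simp
    · obtain ⟨m, rfl⟩ : ∃ m : ℕ, M = (m : ℤ) + 1 := ⟨(M - 1).toNat, by omega⟩
      rw [if_pos (by omega), if_pos (by omega), if_pos (by omega),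
        show ((m : ℤ) + 1).toNat = m + 1 by omega, show ((m : ℤ) + 1 - 1).toNat = m by omega,
        show m + 1 + (n + 1) = m + 1 + n + 1 by omega, Nat.choose_succ_succ' (m + 1 + n) n,
        show m + (n + 1) = m + 1 + n by omega]
      push_cast
      ring

variable {n : ℕ} {k : Type u} [Field k]

/-- The structure over the field. -/
@[reducible] def overOf {X : Scheme.{u}} (f : X ⟶ CohB1.ProjSpace n k) : X.Over (Spec (CommRingCat.of k)) :=
  ⟨f ≫ CohB1.ProjSpace.toSpec n k⟩

/-- Dimension of the cohomology of a pulled-back twist. -/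
def hPull {X : Scheme.{u}} (f : X ⟶ CohB1.ProjSpace n k) (c : ℤ) (q : ℕ) : ℕ :=
  letI := overOf f
  Module.finrank k (Coh.HH X ((Scheme.Modules.pullback f).obj (Twist.twistProjSpace n k c)) q)

theorem subsingleton_iff_hPull {X : Scheme.{u}} (f : X ⟶ CohB1.ProjSpace n k) [IsClosedImmersion f] (c : ℤ)
    (q : ℕ) : Subsingleton (Coh.HH X ((Scheme.Modules.pullback f).obj (Twist.twistProjSpace n k c)) q) ↔
      hPull f c q = 0 := by
  letI := overOf f
  haveI : IsProper (X ↘ Spec (CommRingCat.of k)) := inferInstanceAs (IsProper (f ≫ CohB1.ProjSpace.toSpec n k))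
  haveI := EulerIneqLib.isNoetherian_proper (X := X) k
  haveI := EulerIneqLib.finite_HH (k := k)
    (CurveLib.isCoh_of_isInvertible (AmpleLib.isInvertible_pullback f (HypSurfLib.isInvertible_twist (r := n) (k := k) c))) q
  exact ⟨fun h => Module.finrank_zero_of_subsingleton, fun h => Module.finrank_zero_iff.1 h⟩

theorem hPull_comp {X X' : Scheme.{u}} (φ : X ⟶ X') [IsIso φ] (g : X' ⟶ CohB1.ProjSpace n k)
    (f : X ⟶ CohB1.ProjSpace n k) (h : φ ≫ g = f) (c : ℤ) (q : ℕ) : hPull f c q = hPull g c q := by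
  subst h
  letI := overOf (φ ≫ g)
  letI := overOf g
  let M := (Scheme.Modules.pullback g).obj (Twist.twistProjSpace n k c)
  have hS : DCohLib.SuppOn φ M :=
    { subsingleton := fun y hy => absurd (φ.surjective y) hy
      smul_eq_zero := fun x a ha z => by
        have h : a = 0 := (ConcreteCategory.bijective_of_isIso (φ.stalkMap x)).1 (ha.trans (map_zero _).symm)
        rw [h, zero_smul] }
  haveI := DCohLib.isIso_unit_of_suppOn φ hS
  haveI : Coh.IsQCoh ((Scheme.Modules.pullback φ).obj M) :=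
    InvExt.isQCoh_of_isInvertible (AmpleLib.isInvertible_pullback φ
      (AmpleLib.isInvertible_pullback g (HypSurfLib.isInvertible_twist c)))
  show Module.finrank k (Coh.HH X ((Scheme.Modules.pullback (φ ≫ g)).obj _) q) = Module.finrank k (Coh.HH X' M q)
  refine ((ShBCLib.finrank_HH_iso (N := (Scheme.Modules.pullback φ).obj M)
    ((Scheme.Modules.pullbackComp φ g).app _).symm q).trans ?_).trans
    (ShBCLib.finrank_HH_iso (asIso ((Scheme.Modules.pullbackPushforwardAdjunction φ).unit.app M)) q).symm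
  exact (IntLib.finrank_push k φ (by exact (Category.assoc _ _ _).symm) _ q).symm

theorem finrank_count' {X : Scheme.{u}} [X.Over (Spec (CommRingCat.of k))] {S : ShortComplex X.Modules}
    (hS : S.ShortExact) (p : ℕ) [Module.Finite k (Coh.HH X S.X₁ (p + 1))] [Module.Finite k (Coh.HH X S.X₃ p)]
    [Subsingleton (Coh.HH X S.X₂ p)] [Subsingleton (Coh.HH X S.X₃ (p + 1))] :
    (Module.finrank k (Coh.HH X S.X₃ p) : ℤ) =
      (Module.finrank k (Coh.HH X S.X₁ (p + 1)) : ℤ) - Module.finrank k (Coh.HH X S.X₂ (p + 1)) := by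
  haveI : Module.Finite k (Coh.HH X S.X₂ p) := inferInstance
  have h := finrank_count (F := k) hS p
  have h1 := LinearMap.finrank_range_add_finrank_ker (CurveLib.hMap (k := k) S.f (p + 1))
  have h2 : Module.finrank k (LinearMap.range (CurveLib.hMap (k := k) S.f p)) = 0 := Module.finrank_zero_of_subsingleton
  have h3 : Module.finrank k (Coh.HH X S.X₂ p) = 0 := Module.finrank_zero_of_subsingleton
  have h4 : LinearMap.ker (CurveLib.hMap (k := k) S.g (p + 1)) = ⊤ :=
    LinearMap.ker_eq_top.2 (LinearMap.ext fun x => Subsingleton.elim (α := Coh.HH X S.X₃ (p + 1)) _ _)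
  rw [← CurveLib.range_hMap_f hS] at h4
  have h5 : Module.finrank k (LinearMap.range (CurveLib.hMap (k := k) S.f (p + 1))) =
      Module.finrank k (Coh.HH X S.X₂ (p + 1)) := (LinearEquiv.ofTop _ h4).finrank_eq
  omega

/-- Top cohomology of the twists: a positive function of the degree below the canonical one. -/
theorem exists_good : ∀ (r : ℕ) {a : Fin r → ℕ} (_ : ∀ j, 1 ≤ a j) (G : ∀ j : Fin r, LefPen.Form n k (a j))
    (_ : r + 1 ≤ n) (_ : topologicalKrullDim ↥(LefPen.ciIdeal G).subscheme = ((n - r : ℕ) : WithBot ℕ∞)),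
    ∃ f : ℤ → ℤ, Good (n - r) f ∧ ∀ c : ℤ,
      (hPull (LefPen.ciIdeal G).subschemeι c (n - r) : ℤ) = f ((∑ j, (a j : ℤ)) - n - 1 - c) := by
  intro r
  induction r with
  | zero =>
    intro a ha G hr hdim
    haveI : IsIso (LefPen.ciIdeal G).subschemeι := by
      refine IsClosedImmersion.isIso_of_ker_eq (LefPen.ciIdeal G).subschemeι (𝟙 _) _ (Category.comp_id _) ?_
      rw [Scheme.IdealSheafData.ker_subschemeι, Scheme.Hom.ker_eq_bot_of_isIso, LefPen.ciIdeal, iSup_of_empty]
    refine ⟨formsCount n, good_formsCount n, fun c => ?_⟩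
    rw [hPull_comp (LefPen.ciIdeal G).subschemeι (𝟙 _) _ (Category.comp_id _), Finset.univ_eq_empty, Finset.sum_empty]
    have h1 : hPull (𝟙 (CohB1.ProjSpace n k)) c n = HypSurfLib.hT n k c n :=
      ShBCLib.finrank_HH_iso ((Scheme.Modules.pullbackId _).app _) n
    rw [Nat.sub_zero, h1, hT_top (by omega), formsCount]
    rcases lt_or_ge (0 - (n : ℤ) - 1 - c) 0 with h | h
    · rw [if_neg (by omega), Nat.choose_eq_zero_of_lt (by omega)]; rfl
    · rw [if_pos h]
      congr 2
      omega
  | succ r ih =>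
    intro a ha G hr hdim
    have hp := dim_prefix ha G (by omega) hdim
    obtain ⟨f, hf, hfc⟩ := ih (fun j => ha j.castSucc) (fun j : Fin r => G j.castSucc) (by omega) hp
    have hne : n - r = n - (r + 1) + 1 := by omega
    let ι := (LefPen.ciIdeal (fun j : Fin r => G j.castSucc)).subschemeι
    let Y := (LefPen.ciIdeal (fun j : Fin r => G j.castSucc)).subscheme
    let J := (LefPen.hypIdeal (G (Fin.last r))).comap ι
    obtain ⟨eJ⟩ := nonempty_idealMod_step ha G (by omega) hdim
    have hTY := twistCI_ciIdeal r (fun j => ha j.castSucc) (fun j : Fin r => G j.castSucc) (by omega) hp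
    have hk : (J.subschemeι ≫ ι).ker = (LefPen.ciIdeal G).subschemeι.ker :=
      (ker_comp_step G).trans (Scheme.IdealSheafData.ker_subschemeι _).symm
    let φ := IsClosedImmersion.lift (J.subschemeι ≫ ι) (LefPen.ciIdeal G).subschemeι hk.le
    have hφ : φ ≫ J.subschemeι ≫ ι = (LefPen.ciIdeal G).subschemeι := IsClosedImmersion.lift_fac _ _ _
    haveI : IsIso φ := IsClosedImmersion.isIso_of_ker_eq _ _ φ hφ hk.symm
    refine ⟨fun M => f M - f (M - a (Fin.last r)), (hne ▸ hf).step (ha _), fun c => ?_⟩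
    rw [hPull_comp φ (J.subschemeι ≫ ι) _ hφ, Fin.sum_univ_castSucc]
    letI := overOf ι
    letI := overOf (J.subschemeι ≫ ι)
    haveI : IsProper (Y ↘ Spec (CommRingCat.of k)) := inferInstanceAs (IsProper (ι ≫ CohB1.ProjSpace.toSpec n k))
    haveI := EulerIneqLib.isNoetherian_proper (X := Y) k
    haveI : IsProper (J.subscheme ↘ Spec (CommRingCat.of k)) :=
      inferInstanceAs (IsProper ((J.subschemeι ≫ ι) ≫ CohB1.ProjSpace.toSpec n k))
    haveI := EulerIneqLib.isNoetherian_proper (X := J.subscheme) k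
    let L := fun i : ℤ => (Scheme.Modules.pullback ι).obj (Twist.twistProjSpace n k i)
    have hL : ∀ i, PicF.IsInvertible (L i) := fun i => AmpleLib.isInvertible_pullback ι (HypSurfLib.isInvertible_twist i)
    have hinv : PicF.IsInvertible (ClSub.idealMod J) := ParaFLib.isInvertible_of_iso eJ.symm (hL _)
    obtain ⟨g, w, hS⟩ := exists_restriction_seq hinv (hL c)
    haveI : Coh.IsQCoh ((Scheme.Modules.pullback J.subschemeι).obj (L c)) :=
      InvExt.isQCoh_of_isInvertible (AmpleLib.isInvertible_pullback _ (hL c))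
    let e1 : CohB1.tensorMod (ClSub.idealMod J) (L c) ≅ L (c - a (Fin.last r)) :=
      AmpleLib.tIso eJ (Iso.refl _) ≪≫ (AmpleLib.pullTensor ι _ _).symm ≪≫
        (Scheme.Modules.pullback ι).mapIso (K0PnLib.twistAddIso k n (by ring))
    have h3 : ∀ q, Module.finrank k (Coh.HH Y ((FormalSys.iqF J).obj (L c)) q) = hPull (J.subschemeι ≫ ι) c q := fun q =>
      (IntLib.finrank_push k J.subschemeι (by exact (Category.assoc _ _ _).symm) _ q).trans
        (ShBCLib.finrank_HH_iso ((Scheme.Modules.pullbackComp J.subschemeι ι).app _) q)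
    have hdX : topologicalKrullDim ↥J.subscheme = ((n - (r + 1) : ℕ) : WithBot ℕ∞) :=
      ((IsHomeomorph.topologicalKrullDim_eq _ (Scheme.homeoOfIso (asIso φ)).isHomeomorph).symm).trans hdim
    haveI : Subsingleton (Coh.HH Y ((FormalSys.iqF J).obj (L c)) (n - (r + 1) + 1)) :=
      (subsingleton_push_iff J.subschemeι ((Scheme.Modules.pullback J.subschemeι).obj (L c)) _).2
        (CurveLib.subsingleton_HH_of_dim _ hdX.le (Nat.lt_succ_self _))
    haveI : Subsingleton (Coh.HH Y (L c) (n - (r + 1))) := hTY.1 c _ (by omega) (by omega)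
    haveI : Module.Finite k (Coh.HH Y (CohB1.tensorMod (ClSub.idealMod J) (L c)) (n - (r + 1) + 1)) :=
      EulerIneqLib.finite_HH (k := k) (CurveLib.isCoh_of_isInvertible (AmpleLib.isInvertible_tensor hinv (hL c))) _
    haveI : Module.Finite k (Coh.HH Y ((FormalSys.iqF J).obj (L c)) (n - (r + 1))) :=
      EulerIneqLib.finite_HH (k := k) (DevLib.isCoh_pushforward_closed J.subschemeι
        (CurveLib.isCoh_of_isInvertible (AmpleLib.isInvertible_pullback _ (hL c)))) _
    have h := finrank_count' (k := k) hS (n - (r + 1))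
    have p1 := hfc (c - a (Fin.last r))
    have p2 := hfc c
    have q1 : Module.finrank k (Coh.HH Y (CohB1.tensorMod (ClSub.idealMod J) (L c)) (n - (r + 1) + 1)) =
        hPull ι (c - a (Fin.last r)) (n - (r + 1) + 1) := ShBCLib.finrank_HH_iso e1 _
    rw [hne] at p1 p2
    change (Module.finrank k (Coh.HH Y ((FormalSys.iqF J).obj (L c)) _) : ℤ) =
      (Module.finrank k (Coh.HH Y (CohB1.tensorMod (ClSub.idealMod J) (L c)) _) : ℤ) -
        (hPull ι c (n - (r + 1) + 1) : ℕ) at h
    rw [h3, q1, p1, p2] at h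
    rw [h]
    dsimp only
    congr 1 <;> congr 1 <;> ring

/-- The top cohomology of a twist vanishes exactly above the canonical degree. -/
theorem subsingleton_top_iff {r : ℕ} {a : Fin r → ℕ} (ha : ∀ j, 1 ≤ a j) (G : ∀ j : Fin r, LefPen.Form n k (a j))
    (hr : r + 1 ≤ n) (hdim : topologicalKrullDim ↥(LefPen.ciIdeal G).subscheme = ((n - r : ℕ) : WithBot ℕ∞)) (c : ℤ) :
    Subsingleton (Coh.HH (LefPen.ciIdeal G).subscheme
      ((Scheme.Modules.pullback (LefPen.ciIdeal G).subschemeι).obj (Twist.twistProjSpace n k c)) (n - r)) ↔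
      (∑ j, (a j : ℤ)) - n - 1 < c := by
  obtain ⟨f, hf, hfc⟩ := exists_good r ha G hr hdim
  have h := hfc c
  rw [subsingleton_iff_hPull]
  constructor
  · intro h0
    by_contra hc
    have := hf.base.2 ((∑ j, (a j : ℤ)) - n - 1 - c) (by omega)
    omega
  · intro hc
    have := hf.base.1 ((∑ j, (a j : ℤ)) - n - 1 - c) (by omega)
    omega

end Groth.Agent.CIProjLib
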